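import Groth.Agent.RelAssLib.Specialize
import Groth.Agent.GenFree.Modules
import Groth.Agent.DVRCrit.Local

/-!
# Relative associated points near an associated point
-/

set_option autoImplicit false
set_option linter.style.haveILetI false
set_option linter.unusedSectionVars false
set_option maxHeartbeats 1000000
set_option synthInstance.maxHeartbeats 400000
set_option backward.isDefEq.respectTransparency false

universe u

open CategoryTheory Limits AlgebraicGeometry TopologicalSpace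

noncomputable section

namespace Groth.Agent.RelAssLib

open TensorProduct in
/-- A nonzero free module after inverting `a` has points of support over every prime avoiding `a`. -/
theorem exists_prime_over_of_freeAt {A B : Type u} [CommRing A] [IsDomain A] [CommRing B] [Algebra A B]
    (P : Ideal B) [P.IsPrime] (hP : P.comap (algebraMap A B) = ⊥) {a : A} (ha : a ≠ 0)
    (hfree : GenFree.FreeAt A (B ⧸ P) a) (p : Ideal A) [p.IsPrime] (hp : a ∉ p) :
    ∃ Q : Ideal B, Q.IsPrime ∧ P ≤ Q ∧ Q.comap (algebraMap A B) = p := by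
  let A' := Localization.Away a
  have hinj : Function.Injective (algebraMap A (B ⧸ P)) := by
    rw [injective_iff_map_eq_zero]
    intro r hr
    rw [IsScalarTower.algebraMap_apply A B, Ideal.Quotient.algebraMap_eq, Ideal.Quotient.eq_zero_iff_mem] at hr
    have : r ∈ P.comap (algebraMap A B) := hr
    rwa [hP] at this
  haveI : Module.Free A' (A' ⊗[A] (B ⧸ P)) := hfree
  let K := p.ResidueField
  letI : Algebra A' K := (IsLocalization.Away.lift a (g := algebraMap A K)
    (IsUnit.mk0 _ fun h => hp (Ideal.algebraMap_residueField_eq_zero.mp h))).toAlgebra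
  haveI : IsScalarTower A A' K := .of_algebraMap_eq fun r => (IsLocalization.Away.lift_eq a _ r).symm
  haveI : Nontrivial (A' ⊗[A] (B ⧸ P)) := by
    refine ⟨1 ⊗ₜ 1, 0, fun h => ?_⟩
    haveI : IsLocalizedModule (Submonoid.powers a) (TensorProduct.mk A A' (B ⧸ P) 1) :=
      (isLocalizedModule_iff_isBaseChange (Submonoid.powers a) A' _).mpr (TensorProduct.isBaseChange _ _ _)
    obtain ⟨⟨_, k, rfl⟩, hk⟩ := (IsLocalizedModule.eq_zero_iff (Submonoid.powers a)
      (TensorProduct.mk A A' (B ⧸ P) 1)).mp h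
    have h1 : algebraMap A (B ⧸ P) (a ^ k) = 0 := by
      rw [Algebra.algebraMap_eq_smul_one]; exact hk
    exact pow_ne_zero k ha (hinj (h1.trans (map_zero _).symm))
  haveI : Nontrivial (K ⊗[A'] (A' ⊗[A] (B ⧸ P))) :=
    haveI : Module.FaithfullyFlat A' (A' ⊗[A] (B ⧸ P)) := inferInstance
    Module.FaithfullyFlat.rTensor_nontrivial (R := A') (M := A' ⊗[A] (B ⧸ P)) K
  haveI : Nontrivial (K ⊗[A] (B ⧸ P)) :=
    (AlgebraTensorModule.cancelBaseChange A A' K K (B ⧸ P)).toEquiv.symm.nontrivial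
  obtain ⟨Q⟩ : Nonempty (PrimeSpectrum (K ⊗[A] (B ⧸ P))) := inferInstance
  let x := (PrimeSpectrum.preimageEquivFiber A (B ⧸ P) ⟨p, inferInstance⟩).symm Q
  refine ⟨x.1.asIdeal.comap (Ideal.Quotient.mk P), inferInstance, ?_, ?_⟩
  · intro z hz
    rw [Ideal.mem_comap, Ideal.Quotient.eq_zero_iff_mem.mpr hz]
    exact zero_mem _
  · rw [Ideal.comap_comap]
    exact congrArg PrimeSpectrum.asIdeal x.2

theorem isIntegral_vanishingIdeal_closure {X : Scheme.{u}} (s : X) :
    IsIntegral (Scheme.IdealSheafData.vanishingIdeal (Closeds.closure {s})).subscheme := by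
  let I := Scheme.IdealSheafData.vanishingIdeal (Closeds.closure {s})
  haveI := DVRCrit.isReduced_vanishingIdeal (Closeds.closure {s})
  haveI : IrreducibleSpace I.subscheme := by
    have hr : Set.range I.subschemeι = closure ({s} : Set X) := by
      rw [Scheme.IdealSheafData.range_subschemeι, Scheme.IdealSheafData.coe_support_vanishingIdeal]
      rfl
    haveI : IrreducibleSpace (closure ({s} : Set X)) := Subtype.irreducibleSpace isIrreducible_singleton.closure
    have e := I.subschemeι.isClosedEmbedding.isEmbedding.toHomeomorph.trans (Homeomorph.setCongr hr)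
    exact e.symm.surjective.irreducibleSpace e.symm.continuous
  exact isIntegral_of_irreducibleSpace_of_isReduced _

/-- Over an integral base: near the generic fibre the closure of an associated point has associated maximal points. -/
theorem exists_nhd_integral {X T : Scheme.{u}} (f : X ⟶ T) [LocallyOfFiniteType f] [IsIntegral T]
    (F : X.Modules) [Coh.IsQCoh F] (hF : CohB1.IsFT F) {ξ : X} (hξ : ξ ∈ MoreMor.relAss f F)
    (hgen : f ξ = genericPoint T) :
    ∃ (W : X.Opens) (D : T.Opens), ξ ∈ W ∧ f ξ ∈ D ∧ W ≤ f ⁻¹ᵁ D ∧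
      (∀ v ∈ D, ∃ z ∈ W, ξ ⤳ z ∧ f z = v) ∧
      (∀ x ∈ W, ξ ⤳ x → (∀ z : X, ξ ⤳ z → f z = f x → z ⤳ x → z = x) → x ∈ MoreMor.relAss f F) := by
  obtain ⟨_, ⟨V : T.Opens, (hV : IsAffineOpen V), rfl⟩, hξV, -⟩ :=
    T.isBasis_affineOpens.exists_subset_of_mem_open (Set.mem_univ (f ξ)) isOpen_univ
  obtain ⟨_, ⟨W : X.Opens, (hW : IsAffineOpen W), rfl⟩, hξW, hWV⟩ :=
    X.isBasis_affineOpens.exists_subset_of_mem_open (a := ξ) (u := ↑(f ⁻¹ᵁ V)) hξV (f ⁻¹ᵁ V).2
  haveI : Nonempty V := ⟨⟨_, hξV⟩⟩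
  have hft := f.finiteType_appLE hV hW hWV
  letI := (f.appLE V W hWV).hom.toAlgebra
  haveI : Algebra.FiniteType Γ(T, V) Γ(X, W) := hft
  letI := Module.compHom Γ(F, W) (f.appLE V W hWV).hom
  haveI : IsScalarTower Γ(T, V) Γ(X, W) Γ(F, W) := .of_algebraMap_smul fun _ _ => rfl
  haveI := QCohLib.finite_sections F hF hW
  let P := AssLib.pr hW hξW
  obtain ⟨a, -, ha, hM, -⟩ := GenFree.exists_module (R := Γ(T, V)) (S := Γ(X, W)) (M := Γ(F, W)) one_ne_zero
  obtain ⟨b, hab, hb, hP, -⟩ := GenFree.exists_module (R := Γ(T, V)) (S := Γ(X, W)) (M := Γ(X, W) ⧸ P) ha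
  have hbot : (hV.primeIdealOf ⟨f ξ, hξV⟩).asIdeal = ⊥ := by
    refine le_bot_iff.mp ?_
    have h := (AssLib.specializes_iff hV (AssLib.pt_mem hV ⟨⊥, Ideal.isPrime_bot⟩) hξV).mp
      (hgen ▸ genericPoint_specializes _)
    rwa [AssLib.pr_pt] at h
  have hPbot : P.comap (algebraMap Γ(T, V) Γ(X, W)) = ⊥ :=
    (congr($(IsAffineOpen.comap_primeIdealOf_appLE V hV W hW hWV hξW).1)).trans hbot
  have hD : ∀ v (hv : v ∈ V), b ∉ (hV.primeIdealOf ⟨v, hv⟩).asIdeal ↔ v ∈ T.basicOpen b := fun v hv => by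
    have h := hV.fromSpec_preimage_basicOpen b
    have : hV.primeIdealOf ⟨v, hv⟩ ∈ PrimeSpectrum.basicOpen b ↔ v ∈ T.basicOpen b := by
      rw [← h]
      show hV.fromSpec (hV.primeIdealOf ⟨v, hv⟩) ∈ T.basicOpen b ↔ _
      rw [hV.fromSpec_primeIdealOf]
    exact this
  have hξD : f ξ ∈ T.basicOpen b := (hD _ hξV).mp (by rw [hbot]; exact hb)
  refine ⟨W ⊓ f ⁻¹ᵁ T.basicOpen b, T.basicOpen b, ⟨hξW, hξD⟩, hξD, inf_le_right, fun v hv => ?_, fun x hx hξx hmax => ?_⟩
  · have hvV : v ∈ V := T.basicOpen_le b hv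
    obtain ⟨Q, hQ, hPQ, hQp⟩ := exists_prime_over_of_freeAt P hPbot hb hP (hV.primeIdealOf ⟨v, hvV⟩).asIdeal ((hD v hvV).mpr hv)
    let z := AssLib.pt hW ⟨Q, hQ⟩
    have hz : z ∈ W := AssLib.pt_mem hW _
    have hpr : AssLib.pr hW hz = Q := AssLib.pr_pt hW _
    have hfz : f z = v := by
      have h3 : hV.primeIdealOf ⟨f z, hWV hz⟩ = hV.primeIdealOf ⟨v, hvV⟩ := by
        rw [← IsAffineOpen.comap_primeIdealOf_appLE V hV W hW hWV hz]
        refine PrimeSpectrum.ext ?_
        show (AssLib.pr hW hz).comap _ = _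
        rw [hpr]
        exact hQp
      have h4 := congrArg (fun w => hV.fromSpec w) h3
      simpa only [hV.fromSpec_primeIdealOf] using h4
    exact ⟨z, ⟨hz, show f z ∈ T.basicOpen b from hfz ▸ hv⟩, (AssLib.specializes_iff hW hz hξW).mpr (hpr ▸ hPQ), hfz⟩
  · exact mem_relAss_of_maximal f F hF hξ hξx hmax
      (GenFree.isFlatOverAt_of_freeAt f F hV hW hWV b (hM.of_dvd hab) x hx.1 hx.2)

/-- Near a relative associated point the maximal points of the fibres of its closure are associated. -/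
theorem exists_nhd {X S : Scheme.{u}} (f : X ⟶ S) [LocallyOfFiniteType f]
    (F : X.Modules) [Coh.IsQCoh F] (hF : CohB1.IsFT F) {ξ : X} (hξ : ξ ∈ MoreMor.relAss f F) :
    ∃ (W : X.Opens) (D : S.Opens), ξ ∈ W ∧ f ξ ∈ D ∧
      (∀ v ∈ D, f ξ ⤳ v → ∃ z ∈ W, ξ ⤳ z ∧ f z = v) ∧
      (∀ x ∈ W, ξ ⤳ x → (∀ z : X, ξ ⤳ z → f z = f x → z ⤳ x → z = x) → x ∈ MoreMor.relAss f F) := by
  let I := Scheme.IdealSheafData.vanishingIdeal (Closeds.closure {f ξ})
  haveI : IsIntegral I.subscheme := isIntegral_vanishingIdeal_closure (f ξ)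
  have hr : Set.range I.subschemeι = closure ({f ξ} : Set S) := by
    rw [Scheme.IdealSheafData.range_subschemeι, Scheme.IdealSheafData.coe_support_vanishingIdeal]
    rfl
  obtain ⟨t₀, ht₀⟩ : f ξ ∈ Set.range I.subschemeι := hr ▸ subset_closure rfl
  have hgen : t₀ = genericPoint I.subscheme := by
    refine I.subschemeι.isClosedEmbedding.injective ?_
    refine (Specializes.antisymm ?_ ((genericPoint_specializes t₀).map I.subschemeι.continuous)).eq
    rw [ht₀, specializes_iff_mem_closure, ← hr]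
    exact ⟨_, rfl⟩
  have hc : IsPullback (pullback.fst f I.subschemeι) (pullback.snd f I.subschemeι) f I.subschemeι :=
    IsPullback.of_hasPullback _ _
  haveI : IsClosedImmersion (pullback.fst f I.subschemeι) := MorphismProperty.pullback_fst _ _ inferInstance
  haveI : LocallyOfFiniteType (pullback.snd f I.subschemeι) := MorphismProperty.pullback_snd _ _ inferInstance
  obtain ⟨h1, h2, -⟩ := relAss_baseChange f F hc
  haveI : Coh.IsQCoh ((Scheme.Modules.pullback (pullback.fst f I.subschemeι)).obj F) := PullbackMod.isQCoh_pullback _ F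
  obtain ⟨ξ', hξ', hgξ, hfξ⟩ := h2 ξ hξ t₀ ht₀.symm
  obtain ⟨W', D', hξW', hξD', hWD, hz, hx⟩ := exists_nhd_integral (pullback.snd f I.subschemeι)
    ((Scheme.Modules.pullback (pullback.fst f I.subschemeι)).obj F) (FittStratum.isFT_pullback F hF _) hξ'
    (hfξ.trans hgen)
  obtain ⟨W, hWo, hWe⟩ := (pullback.fst f I.subschemeι).isEmbedding.isInducing.isOpen_iff.mp W'.2
  obtain ⟨D, hDo, hDe⟩ := I.subschemeι.isEmbedding.isInducing.isOpen_iff.mp D'.2
  have hcomm : ∀ w, f (pullback.fst f I.subschemeι w) = I.subschemeι (pullback.snd f I.subschemeι w) := fun w => by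
    rw [← Scheme.Hom.comp_apply, hc.w, Scheme.Hom.comp_apply]
  refine ⟨⟨W, hWo⟩, ⟨D, hDo⟩, ?_, ?_, fun v hv hsv => ?_, fun x hxW hξx hmax => ?_⟩
  · show ξ ∈ W
    rw [← hgξ]; exact hWe.ge hξW'
  · show f ξ ∈ D
    rw [← ht₀, ← hfξ]; exact hDe.ge hξD'
  · obtain ⟨v', rfl⟩ : v ∈ Set.range I.subschemeι := hr ▸ specializes_iff_mem_closure.mp hsv
    obtain ⟨z, hzW, hξz, hzv⟩ := hz v' (hDe.le hv)
    exact ⟨_, hWe.ge hzW, hgξ ▸ hξz.map (pullback.fst f I.subschemeι).continuous, by rw [hcomm, hzv]⟩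
  · obtain ⟨x', rfl, -⟩ : ∃ x', pullback.fst f I.subschemeι x' = x ∧ True := by
      obtain ⟨v', hv'⟩ : f x ∈ Set.range I.subschemeι := hr ▸ specializes_iff_mem_closure.mp (hξx.map f.continuous)
      obtain ⟨w, hw, -⟩ := Scheme.Pullback.exists_preimage_pullback x v' hv'.symm
      exact ⟨w, hw, trivial⟩
    have hemb := (pullback.fst f I.subschemeι).isEmbedding
    refine h1 x' (hx x' (hWe.le hxW) (hemb.isInducing.specializes_iff.mp (by rw [hgξ]; exact hξx)) fun z hξz hfz hzx => ?_)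
    refine hemb.injective (hmax _ ?_ ?_ (hzx.map (pullback.fst f I.subschemeι).continuous))
    · have := hξz.map (pullback.fst f I.subschemeι).continuous
      rwa [hgξ] at this
    · rw [hcomm, hcomm, hfz]

end Groth.Agent.RelAssLib
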