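import Groth.Agent.RelAssLib.Fibre
import Groth.Agent.FlatAssLib.RelAss
import Groth.Agent.PullbackMod.Flat
import Groth.Agent.PullbackMod.Sections

/-!
# Relative associated points: affine description and base change
-/

set_option autoImplicit false
set_option linter.style.haveILetI false
set_option linter.unusedSectionVars false
set_option maxHeartbeats 1000000
set_option backward.isDefEq.respectTransparency false

universe u

open CategoryTheory AlgebraicGeometry Groth.Agent.CAlgFib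

noncomputable section

namespace Groth.Agent.RelAssLib

/-- An associated maximal ideal of the reduced stalk gives an associated point of the fibre. -/
theorem fibre_of_isAssociatedPrime_stalk {R S O N L : Type u} [CommRing R] [CommRing S] [Algebra R S]
    [AddCommGroup N] [Module S N] [Module R N] [IsScalarTower R S N] (p : Ideal R) [p.IsPrime] (q : Ideal S)
    [q.IsPrime] [q.LiesOver p] [IsNoetherianRing (p.Fiber S)] [CommRing O] [IsLocalRing O] [Algebra S O]
    [IsLocalization.AtPrime O q] [AddCommGroup L] [Module S L] [Module O L] [IsScalarTower S O L]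
    (g : N →ₗ[S] L) [IsLocalizedModule q.primeCompl g]
    (h : IsAssociatedPrime (IsLocalRing.maximalIdeal O)
      (L ⧸ ((p.map (algebraMap R S)).map (algebraMap S O) • (⊤ : Submodule O L)))) :
    FlatCA.fiberIdeal p q ∈ associatedPrimes (p.Fiber S) (FlatCA.fiberMod p S N) := by
  obtain ⟨hQ, hQc⟩ := FibAssLib.fiberIdeal_spec p q
  let I : Ideal O := (p.map (algebraMap R S)).map (algebraMap S O)
  let P₀ := p.map (algebraMap R S) • (⊤ : Submodule S N)
  have hin : ∀ x ∈ P₀, g x ∈ I • (⊤ : Submodule O L) :=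
    fun x hx => Submodule.smul_induction_on hx (fun a ha z _ => by
      rw [map_smul, ← algebraMap_smul O a]
      exact Submodule.smul_mem_smul (Ideal.mem_map_of_mem _ ha) trivial)
      fun a b ha hb => by rw [map_add]; exact add_mem ha hb
  have hback : ∀ z ∈ I • (⊤ : Submodule O L), ∃ d ∉ q, ∃ x ∈ P₀, d • z = g x := by
    intro z hz
    refine Submodule.smul_induction_on hz (fun a ha w _ => ?_) ?_
    · obtain ⟨⟨⟨b, hb⟩, d⟩, hd⟩ := (IsLocalization.mem_map_algebraMap_iff q.primeCompl O).mp ha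
      obtain ⟨⟨x, e⟩, he⟩ := IsLocalizedModule.surj q.primeCompl g w
      refine ⟨d.1 * e.1, q.primeCompl.mul_mem d.2 e.2, b • x, Submodule.smul_mem_smul hb trivial, ?_⟩
      have h1 : algebraMap S O e • w = g x := by rw [algebraMap_smul]; exact he
      rw [map_smul, ← algebraMap_smul O b, ← hd, ← h1, ← algebraMap_smul O (d.1 * e.1), smul_smul, smul_smul,
        map_mul]
      congr 1
      ring
    · rintro z₁ z₂ ⟨d₁, hd₁, x₁, hx₁, h₁⟩ ⟨d₂, hd₂, x₂, hx₂, h₂⟩
      refine ⟨d₁ * d₂, q.primeCompl.mul_mem hd₁ hd₂, d₂ • x₁ + d₁ • x₂,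
        add_mem (Submodule.smul_mem _ _ hx₁) (Submodule.smul_mem _ _ hx₂), ?_⟩
      rw [smul_add, map_add, map_smul, map_smul, ← h₁, ← h₂, smul_smul, smul_smul, mul_comm d₂ d₁]
  obtain ⟨hm, z, hz⟩ := h
  obtain ⟨l, rfl⟩ := Submodule.Quotient.mk_surjective _ z
  obtain ⟨⟨n, ⟨d, hd⟩⟩, hdn⟩ := IsLocalizedModule.surj q.primeCompl g l
  have hdn' : algebraMap S O d • l = g n := by rw [algebraMap_smul]; exact hdn
  -- powers of elements of `q` kill the class of `n`
  have hkill : ∀ a ∈ q, ∃ k : ℕ, ∃ e ∉ q, e • a ^ k • n ∈ P₀ := by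
    intro a ha
    have haO : algebraMap S O a ∈ IsLocalRing.maximalIdeal O := by
      rwa [IsLocalization.AtPrime.to_map_mem_maximal_iff O q]
    rw [hz, Ideal.mem_radical_iff] at haO
    obtain ⟨k, hk⟩ := haO
    rw [Submodule.mem_colon_singleton, Submodule.mem_bot, ← Submodule.Quotient.mk_smul, Submodule.Quotient.mk_eq_zero,
      ← map_pow] at hk
    have h1 := Submodule.smul_mem _ (algebraMap S O d) hk
    rw [smul_comm, hdn', algebraMap_smul, ← map_smul] at h1
    obtain ⟨e, he, x, hx, hex⟩ := hback _ h1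
    rw [← map_smul] at hex
    obtain ⟨⟨t, ht⟩, hte⟩ := IsLocalizedModule.exists_of_eq (S := q.primeCompl) (f := g) hex
    refine ⟨k, t * e, q.primeCompl.mul_mem ht he, ?_⟩
    rw [mul_smul, show t • e • a ^ k • n = t • x from hte]
    exact Submodule.smul_mem _ _ hx
  -- units do not
  have hnokill : ∀ b ∉ q, b • n ∉ P₀ := by
    intro b hb hmem
    have h1 := hin _ hmem
    rw [map_smul, ← hdn', ← algebraMap_smul O b, smul_smul] at h1
    have h2 := (Submodule.smul_mem_iff_of_isUnit _ ((IsLocalization.map_units O (⟨b, hb⟩ : q.primeCompl)).mul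
      (IsLocalization.map_units O (⟨d, hd⟩ : q.primeCompl)))).mp h1
    refine hm.ne_top ?_
    rw [hz, (Submodule.Quotient.mk_eq_zero _).mpr h2, Ideal.eq_top_iff_one]
    exact Ideal.le_radical (Submodule.mem_colon_singleton.mpr (by simp))
  let Y := FlatCA.toFiberMod (S := S) p (N := N) n
  have hiff : ∀ b : S, ι p b ∈ (⊥ : Submodule (p.Fiber S) (FlatCA.fiberMod p S N)).colon {Y} ↔
      ∃ r ∉ p, algebraMap R S r • b • n ∈ P₀ := fun b => by
    rw [Submodule.mem_colon_singleton, Submodule.mem_bot, ← smul_eq, ← map_smul, toFiberMod_eq_zero_iff]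
  have hle : (⊥ : Submodule (p.Fiber S) (FlatCA.fiberMod p S N)).colon {Y} ≤ FlatCA.fiberIdeal p q := by
    intro t ht
    obtain ⟨b, hb, s, hs⟩ := exists_factor p t
    refine (Ideal.unit_mul_mem_iff_mem _ (ι_isUnit (S := S) p hb)).mp ?_
    rw [hs]
    refine Ideal.mem_map_of_mem _ ?_
    by_contra hsq
    obtain ⟨r, hr, hrs⟩ := (hiff s).mp (hs ▸ Ideal.mul_mem_left _ _ ht)
    rw [smul_smul] at hrs
    exact hnokill _ (q.primeCompl.mul_mem (fun h' => hr (by rw [Ideal.LiesOver.over (p := p) (P := q)]; exact h')) hsq) hrs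
  haveI := hQ
  obtain ⟨P, hP, hPQ⟩ := Ideal.exists_minimalPrimes_le hle
  obtain ⟨y', hy'⟩ := Submodule.exists_eq_colon_of_mem_minimalPrimes hP
  have hPeq : P = FlatCA.fiberIdeal p q := by
    haveI := hP.1.1
    refine le_antisymm hPQ (Ideal.map_le_iff_le_comap.mpr fun a ha => ?_)
    obtain ⟨k, e, he, hek⟩ := hkill a ha
    have h1 : ι p (e * a ^ k) ∈ P := hP.1.2 ((hiff _).mpr ⟨1, (Ideal.ne_top_iff_one p).mp (Ideal.IsPrime.ne_top ‹_›), by
      rw [map_one, one_smul, mul_smul]; exact hek⟩)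
    rw [map_mul, map_pow] at h1
    exact hP.1.1.mem_of_pow_mem k ((hP.1.1.mem_or_mem h1).resolve_left fun h2 => he (by
      rw [← hQc]; exact hPQ h2))
  exact hPeq ▸ isAssociatedPrime_iff.mpr ⟨hP.1.1, y', hy'⟩

variable {X Y : Scheme.{u}} (f : X ⟶ Y) [LocallyOfFiniteType f]

/-- Relative associated points on an affine chart. -/
theorem mem_relAss_iff (F : X.Modules) [Coh.IsQCoh F] {V : Y.Opens} (hV : IsAffineOpen V)
    {W : X.Opens} (hW : IsAffineOpen W) (hWV : W ≤ f ⁻¹ᵁ V) (x : X) (hx : x ∈ W) :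
    letI := (f.appLE V W hWV).hom.toAlgebra
    x ∈ MoreMor.relAss f F ↔ FlatCA.fiberIdeal (hV.primeIdealOf ⟨f x, hWV hx⟩).asIdeal (AssLib.pr hW hx) ∈
      associatedPrimes ((hV.primeIdealOf ⟨f x, hWV hx⟩).asIdeal.Fiber Γ(X, W))
        (FlatCA.fiberMod (hV.primeIdealOf ⟨f x, hWV hx⟩).asIdeal Γ(X, W) Γ(F, W)) := by
  letI := (f.appLE V W hWV).hom.toAlgebra
  refine ⟨fun h => ?_, FlatAssLib.mem_relAss_of_fibre f F hV hW hWV x hx⟩
  haveI : Algebra.FiniteType Γ(Y, V) Γ(X, W) := f.finiteType_appLE hV hW hWV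
  letI := Module.compHom Γ(F, W) (f.appLE V W hWV).hom
  haveI : IsScalarTower Γ(Y, V) Γ(X, W) Γ(F, W) := .of_algebraMap_smul fun _ _ => rfl
  letI := Module.compHom (F.presheaf.stalk x) (X.presheaf.germ W x hx).hom
  obtain ⟨g, hg⟩ := GenFree.exists_isLocalizedModule_germ F hW x hx
  haveI := hg
  letI : Algebra Γ(X, W) (X.presheaf.stalk x) := TopCat.Presheaf.algebra_section_stalk X.presheaf ⟨x, hx⟩
  haveI : IsLocalization.AtPrime (X.presheaf.stalk x) (AssLib.pr hW hx) := hW.isLocalization_stalk ⟨x, hx⟩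
  haveI : IsScalarTower Γ(X, W) (X.presheaf.stalk x) (F.presheaf.stalk x) := .of_algebraMap_smul fun _ _ => rfl
  have hyV : f x ∈ V := hWV hx
  letI := TopCat.Presheaf.algebra_section_stalk Y.presheaf ⟨f x, hyV⟩
  haveI : IsLocalization.AtPrime (Y.presheaf.stalk (f x)) (hV.primeIdealOf ⟨f x, hyV⟩).asIdeal :=
    hV.isLocalization_stalk ⟨f x, hyV⟩
  haveI : (AssLib.pr hW hx).LiesOver (hV.primeIdealOf ⟨f x, hyV⟩).asIdeal :=
    ⟨congr($(IsAffineOpen.comap_primeIdealOf_appLE V hV W hW hWV hx).1).symm⟩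
  have hI : ((hV.primeIdealOf ⟨f x, hyV⟩).asIdeal.map (algebraMap Γ(Y, V) Γ(X, W))).map
      (algebraMap Γ(X, W) (X.presheaf.stalk x)) =
      (IsLocalRing.maximalIdeal (Y.presheaf.stalk (f x))).map (f.stalkMap x).hom := by
    rw [← IsLocalization.AtPrime.map_eq_maximalIdeal (hV.primeIdealOf ⟨f x, hyV⟩).asIdeal (Y.presheaf.stalk (f x)),
      Ideal.map_map, Ideal.map_map]
    congr 1
    refine RingHom.ext fun r => ?_
    show X.presheaf.germ W x hx (f.appLE V W hWV r) = f.stalkMap x (Y.presheaf.germ V (f x) hyV r)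
    rw [Scheme.Hom.germ_stalkMap_apply, Scheme.Hom.appLE, CommRingCat.comp_apply, X.presheaf.germ_res_apply]
  refine fibre_of_isAssociatedPrime_stalk (O := X.presheaf.stalk x) _ (AssLib.pr hW hx) g ?_
  rw [hI]
  exact h

variable {X' S' : Scheme.{u}} {g : S' ⟶ Y} {f' : X' ⟶ S'} {g' : X' ⟶ X}

/-- Relative associated points under base change. -/
theorem relAss_baseChange (F : X.Modules) [Coh.IsQCoh F] (hc : IsPullback g' f' f g) :
    (∀ x' ∈ MoreMor.relAss f' ((Scheme.Modules.pullback g').obj F), g' x' ∈ MoreMor.relAss f F) ∧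
    (∀ x ∈ MoreMor.relAss f F, ∀ s' : S', f x = g s' →
      ∃ x' ∈ MoreMor.relAss f' ((Scheme.Modules.pullback g').obj F), g' x' = x ∧ f' x' = s') ∧
    (∀ z : X', g' z ∈ MoreMor.relAss f F →
      ∃ x' ∈ MoreMor.relAss f' ((Scheme.Modules.pullback g').obj F), x' ⤳ z ∧ g' x' = g' z ∧ f' x' = f' z) := by
  haveI : LocallyOfFiniteType f' := MorphismProperty.of_isPullback hc inferInstance
  let gF := (Scheme.Modules.pullback g').obj F
  haveI : Coh.IsQCoh gF := PullbackMod.isQCoh_pullback g' F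
  have key : ∀ (V : Y.Opens) (W : X.Opens) (V' : S'.Opens) (hV : IsAffineOpen V) (hW : IsAffineOpen W)
      (hV' : IsAffineOpen V') (e : W ≤ f ⁻¹ᵁ V) (e' : V' ≤ g ⁻¹ᵁ V) (s' : S') (hs : s' ∈ V'),
      (∀ x' (hx' : x' ∈ g' ⁻¹ᵁ W ⊓ f' ⁻¹ᵁ V'), f' x' = s' → x' ∈ MoreMor.relAss f' gF → g' x' ∈ MoreMor.relAss f F) ∧
      (∀ x (hx : x ∈ W), f x = g s' → x ∈ MoreMor.relAss f F →
        ∃ x' ∈ MoreMor.relAss f' gF, g' x' = x ∧ f' x' = s') ∧
      (∀ z (hz : z ∈ g' ⁻¹ᵁ W ⊓ f' ⁻¹ᵁ V'), f' z = s' → g' z ∈ MoreMor.relAss f F →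
        ∃ x' ∈ MoreMor.relAss f' gF, x' ⤳ z ∧ g' x' = g' z ∧ f' x' = f' z) := by
    intro V W V' hV hW hV' e e' s' hs
    obtain ⟨hW', hpo⟩ := PullbackMod.isPushout_appLE hc hV hW hV' e e'
    let W' := g' ⁻¹ᵁ W ⊓ f' ⁻¹ᵁ V'
    letI : Algebra Γ(Y, V) Γ(X, W) := (f.appLE V W e).hom.toAlgebra
    letI : Algebra Γ(Y, V) Γ(S', V') := (g.appLE V V' e').hom.toAlgebra
    letI : Algebra Γ(X, W) Γ(X', W') := (g'.appLE W W' inf_le_left).hom.toAlgebra
    letI : Algebra Γ(S', V') Γ(X', W') := (f'.appLE V' W' inf_le_right).hom.toAlgebra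
    letI : Algebra Γ(Y, V) Γ(X', W') :=
      ((g'.appLE W W' inf_le_left).hom.comp (f.appLE V W e).hom).toAlgebra
    haveI : IsScalarTower Γ(Y, V) Γ(X, W) Γ(X', W') := .of_algebraMap_eq fun _ => rfl
    haveI : IsScalarTower Γ(Y, V) Γ(S', V') Γ(X', W') := .of_algebraMap_eq' (by
        show ((f.appLE V W e) ≫ g'.appLE W _ inf_le_left).hom =
          ((g.appLE V V' e') ≫ f'.appLE V' _ inf_le_right).hom
        simp only [Scheme.Hom.appLE_comp_appLE, hc.w])
    haveI : Algebra.IsPushout Γ(Y, V) Γ(S', V') Γ(X, W) Γ(X', W') := hpo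
    haveI : Algebra.FiniteType Γ(Y, V) Γ(X, W) := f.finiteType_appLE hV hW e
    haveI : Algebra.FiniteType Γ(S', V') Γ(X', W') := f'.finiteType_appLE hV' hW' inf_le_right
    letI := Module.compHom Γ(gF, W') (g'.appLE W W' inf_le_left).hom
    haveI : IsScalarTower Γ(X, W) Γ(X', W') Γ(gF, W') := .of_algebraMap_smul fun _ _ => rfl
    have hf := PullbackMod.isBaseChange_pullMapL g' F hW hW' (show W' ≤ g' ⁻¹ᵁ W from inf_le_left)
    have hgs : g s' ∈ V := e' hs
    let p := (hV.primeIdealOf ⟨g s', hgs⟩).asIdeal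
    let p' := (hV'.primeIdealOf ⟨s', hs⟩).asIdeal
    haveI : p'.LiesOver p := ⟨congr($(IsAffineOpen.comap_primeIdealOf_appLE V hV V' hV' e' hs).1).symm⟩
    obtain ⟨h0, h1, h2⟩ := fibre_ass_baseChange (A := Γ(Y, V)) (A' := Γ(S', V')) (B := Γ(X, W)) (B' := Γ(X', W'))
      (PullbackMod.pullMapL g' F (show W' ≤ g' ⁻¹ᵁ W from inf_le_left)) hf p p'
    refine ⟨?_, ?_, ?_⟩
    · intro x' hx' hfx hmem
      have hxW : g' x' ∈ W := hx'.1
      have hfg : f (g' x') = g s' := by rw [← hfx, ← Scheme.Hom.comp_apply, hc.w, Scheme.Hom.comp_apply]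
      have hp : (hV.primeIdealOf ⟨f (g' x'), e hxW⟩).asIdeal = p := by simp only [p]; congr 3
      have hp' : (hV'.primeIdealOf ⟨f' x', hx'.2⟩).asIdeal = p' := by simp only [p']; congr 3
      haveI : (AssLib.pr hW' hx').LiesOver p' :=
        ⟨(congr($(IsAffineOpen.comap_primeIdealOf_appLE V' hV' W' hW' inf_le_right hx').1).trans hp').symm⟩
      have hq : (AssLib.pr hW' hx').under Γ(X, W) = AssLib.pr hW hxW :=
        congr($(IsAffineOpen.comap_primeIdealOf_appLE W hW W' hW' inf_le_left hx').1)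
      have h3 := h1 _ (FlatAssLib.mem_assocFibre_congr hp' rfl ((mem_relAss_iff f' gF hV' hW' inf_le_right x' hx').mp hmem))
      exact (mem_relAss_iff f F hV hW e _ hxW).mpr (FlatAssLib.mem_assocFibre_congr hp.symm hq h3)
    · intro x hx hfx hmem
      have hp : (hV.primeIdealOf ⟨f x, e hx⟩).asIdeal = p := by simp only [p]; congr 3
      haveI : (AssLib.pr hW hx).LiesOver p :=
        ⟨(congr($(IsAffineOpen.comap_primeIdealOf_appLE V hV W hW e hx).1).trans hp).symm⟩
      obtain ⟨q', hq', hlo, hqq, hass⟩ := h2 _ (FlatAssLib.mem_assocFibre_congr hp rfl ((mem_relAss_iff f F hV hW e x hx).mp hmem))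
      let x' := AssLib.pt hW' ⟨q', hq'⟩
      have hx' : x' ∈ W' := AssLib.pt_mem hW' _
      have hpr : AssLib.pr hW' hx' = q' := AssLib.pr_pt hW' _
      have hg' : g' x' = x := by
        have h3 : hW.primeIdealOf ⟨g' x', hx'.1⟩ = hW.primeIdealOf ⟨x, hx⟩ := by
          rw [← IsAffineOpen.comap_primeIdealOf_appLE W hW W' hW' inf_le_left hx']
          refine PrimeSpectrum.ext ?_
          show (AssLib.pr hW' hx').comap _ = _
          rw [hpr]
          exact hqq
        have h4 := congrArg (fun z => hW.fromSpec z) h3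
        simpa only [hW.fromSpec_primeIdealOf] using h4
      have hf' : f' x' = s' := by
        have h3 : hV'.primeIdealOf ⟨f' x', hx'.2⟩ = hV'.primeIdealOf ⟨s', hs⟩ := by
          rw [← IsAffineOpen.comap_primeIdealOf_appLE V' hV' W' hW' inf_le_right hx']
          refine PrimeSpectrum.ext ?_
          show (AssLib.pr hW' hx').comap _ = _
          rw [hpr]
          exact hlo.over.symm
        have h4 := congrArg (fun z => hV'.fromSpec z) h3
        simpa only [hV'.fromSpec_primeIdealOf] using h4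
      have hp' : (hV'.primeIdealOf ⟨f' x', hx'.2⟩).asIdeal = p' := by simp only [p']; congr 3
      exact ⟨x', (mem_relAss_iff f' gF hV' hW' inf_le_right x' hx').mpr
        (FlatAssLib.mem_assocFibre_congr hp'.symm hpr.symm hass), hg', hf'⟩
    · intro z hz hfz hmem
      have hzW : g' z ∈ W := hz.1
      have hfg : f (g' z) = g s' := by rw [← hfz, ← Scheme.Hom.comp_apply, hc.w, Scheme.Hom.comp_apply]
      have hp : (hV.primeIdealOf ⟨f (g' z), e hzW⟩).asIdeal = p := by simp only [p]; congr 3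
      have hp' : (hV'.primeIdealOf ⟨f' z, hz.2⟩).asIdeal = p' := by simp only [p']; congr 3
      haveI : (AssLib.pr hW' hz).LiesOver p' :=
        ⟨(congr($(IsAffineOpen.comap_primeIdealOf_appLE V' hV' W' hW' inf_le_right hz).1).trans hp').symm⟩
      haveI : (AssLib.pr hW hzW).LiesOver p :=
        ⟨(congr($(IsAffineOpen.comap_primeIdealOf_appLE V hV W hW e hzW).1).trans hp).symm⟩
      have hq : (AssLib.pr hW' hz).under Γ(X, W) = AssLib.pr hW hzW :=
        congr($(IsAffineOpen.comap_primeIdealOf_appLE W hW W' hW' inf_le_left hz).1)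
      obtain ⟨q', hq', hlo, hle, hqq, hass⟩ := h0 _ _ hq
        (FlatAssLib.mem_assocFibre_congr hp rfl ((mem_relAss_iff f F hV hW e _ hzW).mp hmem))
      let x' := AssLib.pt hW' ⟨q', hq'⟩
      have hx' : x' ∈ W' := AssLib.pt_mem hW' _
      have hpr : AssLib.pr hW' hx' = q' := AssLib.pr_pt hW' _
      have hg' : g' x' = g' z := by
        have h3 : hW.primeIdealOf ⟨g' x', hx'.1⟩ = hW.primeIdealOf ⟨g' z, hzW⟩ := by
          rw [← IsAffineOpen.comap_primeIdealOf_appLE W hW W' hW' inf_le_left hx']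
          refine PrimeSpectrum.ext ?_
          show (AssLib.pr hW' hx').comap _ = _
          rw [hpr]
          exact hqq
        have h4 := congrArg (fun w => hW.fromSpec w) h3
        simpa only [hW.fromSpec_primeIdealOf] using h4
      have hf' : f' x' = f' z := by
        have h3 : hV'.primeIdealOf ⟨f' x', hx'.2⟩ = hV'.primeIdealOf ⟨s', hs⟩ := by
          rw [← IsAffineOpen.comap_primeIdealOf_appLE V' hV' W' hW' inf_le_right hx']
          refine PrimeSpectrum.ext ?_
          show (AssLib.pr hW' hx').comap _ = _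
          rw [hpr]
          exact hlo.over.symm
        have h4 := congrArg (fun w => hV'.fromSpec w) h3
        simpa only [hV'.fromSpec_primeIdealOf, ← hfz] using h4
      have hp'' : (hV'.primeIdealOf ⟨f' x', hx'.2⟩).asIdeal = p' := by simp only [p']; congr 3; exact hf'.trans hfz
      exact ⟨x', (mem_relAss_iff f' gF hV' hW' inf_le_right x' hx').mpr
        (FlatAssLib.mem_assocFibre_congr hp''.symm hpr.symm hass),
        (AssLib.specializes_iff hW' hz hx').mpr (hpr.trans_le hle), hg', hf'⟩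
  refine ⟨?_, ?_, ?_⟩
  rotate_right
  · intro z hz
    obtain ⟨V, W, V', hV, hW, hV', e, e', hxW, hxV'⟩ := PullbackMod.exists_affines hc z
    exact (key V W V' hV hW hV' e e' (f' z) hxV').2.2 z ⟨hxW, hxV'⟩ rfl hz
  · intro x' hx'
    obtain ⟨V, W, V', hV, hW, hV', e, e', hxW, hxV'⟩ := PullbackMod.exists_affines hc x'
    exact (key V W V' hV hW hV' e e' (f' x') hxV').1 x' ⟨hxW, hxV'⟩ rfl hx'
  · intro x hx s' hfx
    obtain ⟨_, ⟨V : Y.Opens, (hV : IsAffineOpen V), rfl⟩, hxV, -⟩ :=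
      Y.isBasis_affineOpens.exists_subset_of_mem_open (Set.mem_univ (f x)) isOpen_univ
    obtain ⟨_, ⟨W : X.Opens, (hW : IsAffineOpen W), rfl⟩, hxW, hWV⟩ :=
      X.isBasis_affineOpens.exists_subset_of_mem_open (a := x) (u := ↑(f ⁻¹ᵁ V)) hxV (f ⁻¹ᵁ V).2
    obtain ⟨_, ⟨V' : S'.Opens, (hV' : IsAffineOpen V'), rfl⟩, hsV', hV'V⟩ :=
      S'.isBasis_affineOpens.exists_subset_of_mem_open (a := s') (u := ↑(g ⁻¹ᵁ V))
        (show g s' ∈ V by rw [← hfx]; exact hxV) (g ⁻¹ᵁ V).2
    exact (key V W V' hV hW hV' hWV hV'V s' hsV').2.1 x hxW hfx hx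

end Groth.Agent.RelAssLib
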