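import Groth.Agent.S2069
import Groth.Agent.FibAssLib.Fibre
import Mathlib.RingTheory.Flat.FaithfullyFlat.Algebra
import Mathlib.RingTheory.TensorProduct.IsBaseChangePi

/-!
# Associated primes of fibre modules under base change
-/

set_option autoImplicit false
set_option linter.style.haveILetI false
set_option linter.unusedSectionVars false
set_option maxHeartbeats 1000000
set_option synthInstance.maxHeartbeats 200000
set_option backward.isDefEq.respectTransparency false

universe u

open TensorProduct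

noncomputable section

namespace Groth.Agent.RelAssLib

section Flat

variable {F F' M : Type u} [CommRing F] [IsNoetherianRing F] [CommRing F'] [Algebra F F'] [Module.Flat F F']
  [AddCommGroup M] [Module F M]

theorem comap_eq_of_mem (p : Ideal F) [p.IsPrime] {P : Ideal F'}
    (h : P ∈ associatedPrimes F' (F' ⧸ p.map (algebraMap F F') • (⊤ : Submodule F' F'))) :
    P.comap (algebraMap F F') = p := by
  have hP := h.1
  obtain ⟨-, x, hx⟩ := h
  have hinj : ∀ a ∉ p, ∀ z : F' ⊗[F] (F ⧸ p), algebraMap F F' a • z = 0 → z = 0 := by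
    intro a ha z hz
    have hl : Function.Injective (LinearMap.lsmul F (F ⧸ p) a) := fun u v huv => by
      obtain ⟨u, rfl⟩ := Ideal.Quotient.mk_surjective u
      obtain ⟨v, rfl⟩ := Ideal.Quotient.mk_surjective v
      simp only [LinearMap.lsmul_apply, Algebra.smul_def, Ideal.Quotient.algebraMap_eq, ← map_mul,
        Ideal.Quotient.eq, ← mul_sub] at huv
      exact Ideal.Quotient.eq.mpr ((Ideal.IsPrime.mem_or_mem ‹_› huv).resolve_left ha)
    refine (injective_iff_map_eq_zero _).mp (Module.Flat.lTensor_preserves_injective_linearMap (M := F') _ hl) z ?_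
    rw [← hz, algebraMap_smul]
    clear hz
    induction z using TensorProduct.induction_on with
    | zero => simp
    | tmul u v => simp
    | add u v hu hv => rw [map_add, smul_add, hu, hv]
  refine le_antisymm (fun a ha => ?_) fun a ha => ?_
  · by_contra hap
    rw [Ideal.mem_comap, hx, Ideal.mem_radical_iff] at ha
    obtain ⟨k, hk⟩ := ha
    rw [Submodule.mem_colon_singleton, Submodule.mem_bot, ← map_pow] at hk
    have h0 : x = 0 := by
      have h1 := hinj (a ^ k) (fun h => hap ((inferInstance : p.IsPrime).mem_of_pow_mem k h))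
        ((Groth.Agent.S2069.tensorQuot (S := F') (N := F') p).symm x)
        (by rw [← map_smul, hk, map_zero])
      rwa [LinearEquiv.map_eq_zero_iff] at h1
    refine hP.ne_top ?_
    rw [hx, h0, Ideal.eq_top_iff_one]
    exact Ideal.le_radical (Submodule.mem_colon_singleton.mpr (by simp))
  · rw [Ideal.mem_comap, hx]
    refine Ideal.le_radical (Submodule.mem_colon_singleton.mpr ?_)
    obtain ⟨y, rfl⟩ := Submodule.Quotient.mk_surjective _ x
    rw [← Submodule.Quotient.mk_smul, Submodule.mem_bot, Submodule.Quotient.mk_eq_zero]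
    exact Submodule.smul_mem_smul (Ideal.mem_map_of_mem _ ha) trivial

/-- Associated primes of a flat base change lie over associated primes. -/
theorem comap_mem_of_flat {P : Ideal F'} (hP : P ∈ associatedPrimes F' (F' ⊗[F] M)) :
    P.comap (algebraMap F F') ∈ associatedPrimes F M := by
  rw [Groth.Agent.S2069.result] at hP
  obtain ⟨p, hp, hP⟩ := Set.mem_iUnion₂.mp hP
  haveI := hp.1
  rw [comap_eq_of_mem p hP]
  exact hp

/-- Along a faithfully flat map every associated prime lifts. -/
theorem exists_mem_of_faithfullyFlat [Module.FaithfullyFlat F F'] [IsNoetherianRing F'] {p : Ideal F}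
    (hp : p ∈ associatedPrimes F M) :
    ∃ P ∈ associatedPrimes F' (F' ⊗[F] M), P.comap (algebraMap F F') = p := by
  haveI := hp.1
  have hne : p.map (algebraMap F F') • (⊤ : Submodule F' F') ≠ ⊤ := by
    rw [smul_eq_mul, Ideal.mul_top]
    intro h
    have := Ideal.comap_map_eq_self_of_faithfullyFlat (B := F') p
    rw [h, Ideal.comap_top] at this
    exact hp.1.ne_top this.symm
  haveI : Nontrivial (F' ⧸ p.map (algebraMap F F') • (⊤ : Submodule F' F')) :=
    Submodule.Quotient.nontrivial_iff.mpr hne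
  obtain ⟨P, hP⟩ := associatedPrimes.nonempty F' (F' ⧸ p.map (algebraMap F F') • (⊤ : Submodule F' F'))
  refine ⟨P, ?_, comap_eq_of_mem p hP⟩
  rw [Groth.Agent.S2069.result]
  exact Set.mem_iUnion₂.mpr ⟨p, hp, hP⟩

/-- Along a flat map every point over an associated prime generalises to an associated prime over it. -/
theorem exists_mem_le [IsNoetherianRing F'] {p : Ideal F} (hp : p ∈ associatedPrimes F M) (Q : Ideal F') [Q.IsPrime]
    (hQ : Q.comap (algebraMap F F') = p) :
    ∃ P ∈ associatedPrimes F' (F' ⊗[F] M), P ≤ Q ∧ P.comap (algebraMap F F') = p := by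
  haveI := hp.1
  have hann : Module.annihilator F' (F' ⧸ p.map (algebraMap F F') • (⊤ : Submodule F' F')) = p.map (algebraMap F F') := by
    rw [smul_eq_mul, Ideal.mul_top]
    exact Ideal.annihilator_quotient
  obtain ⟨P, hP, hPQ⟩ := Ideal.exists_minimalPrimes_le (J := Q) (I := p.map (algebraMap F F'))
    (Ideal.map_le_iff_le_comap.mpr hQ.ge)
  rw [← hann] at hP
  have hP' := Module.associatedPrimes.minimalPrimes_annihilator_subset_associatedPrimes F' _ hP
  refine ⟨P, ?_, hPQ, comap_eq_of_mem p hP'⟩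
  rw [Groth.Agent.S2069.result]
  exact Set.mem_iUnion₂.mpr ⟨p, hp, hP'⟩

end Flat

section Fibre

open Groth.Agent.CAlgFib

variable {A A' B B' N N' : Type u} [CommRing A] [CommRing A'] [CommRing B] [CommRing B'] [Algebra A A'] [Algebra A B]
  [Algebra A' B'] [Algebra B B'] [Algebra A B'] [IsScalarTower A A' B'] [IsScalarTower A B B']
  [Algebra.IsPushout A A' B B'] [AddCommGroup N] [Module B N] [AddCommGroup N'] [Module B' N'] [Module B N']
  [IsScalarTower B B' N']

attribute [local instance] Algebra.TensorProduct.rightAlgebra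

/-- The map of fibre rings: a faithfully flat algebra compatible with the inclusions. -/
theorem exists_fiber_hom (p : Ideal A) [p.IsPrime] (p' : Ideal A') [p'.IsPrime] [p'.LiesOver p] :
    ∃ ψ : p.Fiber B →+* p'.Fiber B', (letI := ψ.toAlgebra; Module.FaithfullyFlat (p.Fiber B) (p'.Fiber B')) ∧
      ∀ b : B, ψ (ι p b) = ι p' (algebraMap B B' b) := by
  letI := Localization.AtPrime.algebraOfLiesOver p p'
  let F := p.Fiber B
  let T := F ⊗[p.ResidueField] p'.ResidueField
  let e : T ≃+* p'.Fiber B' :=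
    ((Algebra.TensorProduct.comm p.ResidueField F p'.ResidueField).toRingEquiv.trans
      (Algebra.TensorProduct.cancelBaseChange A p.ResidueField p'.ResidueField p'.ResidueField B :
        p'.ResidueField ⊗[p.ResidueField] F ≃ₐ[p'.ResidueField] p'.ResidueField ⊗[A] B).toRingEquiv).trans
      ((Algebra.TensorProduct.cancelBaseChange A A' A' p'.ResidueField B).toRingEquiv.symm.trans
        (Algebra.TensorProduct.congr (AlgEquiv.refl (R := A') (A₁ := p'.ResidueField)) (Algebra.IsPushout.equiv A A' B B')).toRingEquiv)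
  let ψ : F →+* p'.Fiber B' := e.toRingHom.comp Algebra.TensorProduct.includeLeftRingHom
  refine ⟨ψ, ?_, fun b => ?_⟩
  · letI := ψ.toAlgebra
    haveI : Module.FaithfullyFlat p.ResidueField p'.ResidueField := inferInstance
    haveI : Module.FaithfullyFlat F T := inferInstance
    exact Module.FaithfullyFlat.of_linearEquiv F T
      ({ e.toAddEquiv with
        map_smul' := fun a x => by
          show e (a • x) = ψ a * e x
          rw [show ψ a = e (Algebra.TensorProduct.includeLeftRingHom a) from rfl, ← map_mul]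
          congr 1
          exact Algebra.smul_def a x } : T ≃ₗ[F] p'.Fiber B').symm
  · show Algebra.TensorProduct.congr (AlgEquiv.refl (R := A') (A₁ := p'.ResidueField)) (Algebra.IsPushout.equiv A A' B B')
      ((Algebra.TensorProduct.cancelBaseChange A A' A' p'.ResidueField B).symm
        (Algebra.TensorProduct.cancelBaseChange A p.ResidueField p'.ResidueField p'.ResidueField B
          (Algebra.TensorProduct.comm p.ResidueField (p.Fiber B) p'.ResidueField ((1 ⊗ₜ[A] b) ⊗ₜ[p.ResidueField] 1)))) = _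
    simp [Algebra.IsPushout.equiv_tmul]

variable (f : N →ₗ[B] N') (hf : IsBaseChange B' f) (p : Ideal A) [p.IsPrime] (p' : Ideal A') [p'.IsPrime] [p'.LiesOver p]
  [Algebra.FiniteType A B] [Algebra.FiniteType A' B']

include hf in
theorem fibre_ass_baseChange :
    (∀ (q₀ : Ideal B') [q₀.IsPrime] [q₀.LiesOver p'] (q : Ideal B) [q.IsPrime] [q.LiesOver p], q₀.under B = q →
      FlatCA.fiberIdeal p q ∈ associatedPrimes (p.Fiber B) (FlatCA.fiberMod p B N) →
      ∃ (q' : Ideal B') (_ : q'.IsPrime) (_ : q'.LiesOver p'), q' ≤ q₀ ∧ q'.under B = q ∧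
        FlatCA.fiberIdeal p' q' ∈ associatedPrimes (p'.Fiber B') (FlatCA.fiberMod p' B' N')) ∧
    (∀ (q' : Ideal B') [q'.IsPrime] [q'.LiesOver p'],
      FlatCA.fiberIdeal p' q' ∈ associatedPrimes (p'.Fiber B') (FlatCA.fiberMod p' B' N') →
      FlatCA.fiberIdeal p (q'.under B) ∈ associatedPrimes (p.Fiber B) (FlatCA.fiberMod p B N)) ∧
    (∀ (q : Ideal B) [q.IsPrime] [q.LiesOver p],
      FlatCA.fiberIdeal p q ∈ associatedPrimes (p.Fiber B) (FlatCA.fiberMod p B N) →
      ∃ (q' : Ideal B') (_ : q'.IsPrime) (_ : q'.LiesOver p'), q'.under B = q ∧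
        FlatCA.fiberIdeal p' q' ∈ associatedPrimes (p'.Fiber B') (FlatCA.fiberMod p' B' N')) := by
  obtain ⟨ψ, hψff, hψ⟩ := exists_fiber_hom (A := A) (A' := A') (B := B) (B' := B') p p'
  let F := p.Fiber B
  let F' := p'.Fiber B'
  letI : Algebra F F' := ψ.toAlgebra
  haveI : Module.FaithfullyFlat F F' := hψff
  letI : Algebra B F' := ((ι p').comp (algebraMap B B')).toAlgebra
  haveI : IsScalarTower B B' F' := .of_algebraMap_eq fun _ => rfl
  haveI : IsScalarTower B F F' := .of_algebraMap_eq fun b => (hψ b).symm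
  haveI : IsNoetherianRing F := FibAssLib.isNoetherianRing_fiber p
  haveI : IsNoetherianRing F' := FibAssLib.isNoetherianRing_fiber p'
  letI : Module B (F' ⊗[B'] N') := TensorProduct.leftModule
  haveI : IsScalarTower B B' (F' ⊗[B'] N') := TensorProduct.isScalarTower_left
  haveI : IsScalarTower B F' (F' ⊗[B'] N') := TensorProduct.isScalarTower_left
  have hbc : IsBaseChange F' (((TensorProduct.mk B' F' N' 1).restrictScalars B).comp f) :=
    hf.comp (TensorProduct.isBaseChange B' N' F')
  let E : F' ⊗[F] (F ⊗[B] N) ≃ₗ[F'] F' ⊗[B'] N' :=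
    (AlgebraTensorModule.cancelBaseChange B F F' F' N).trans hbc.equiv
  have hass : ∀ P : Ideal F', P ∈ associatedPrimes F' (FlatCA.fiberMod p' B' N') ↔
      P ∈ associatedPrimes F' (F' ⊗[F] (F ⊗[B] N)) := fun P => by
    rw [LinearEquiv.AssociatedPrimes.eq E]
    rfl
  refine ⟨?_, ?_, ?_⟩
  · intro q₀ _ _ q _ _ hqq h
    obtain ⟨hQ, hQc⟩ := FibAssLib.fiberIdeal_spec p q
    obtain ⟨hQ₀, hQ₀c⟩ := FibAssLib.fiberIdeal_spec p' q₀
    haveI := hQ₀
    haveI := hQ
    have hcomap : (FlatCA.fiberIdeal p' q₀).comap (algebraMap F F') = FlatCA.fiberIdeal p q := by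
      refine (FibAssLib.eq_fiberIdeal_of_comap p ?_).symm
      rw [← hqq]
      ext b
      show ψ (ι p b) ∈ FlatCA.fiberIdeal p' q₀ ↔ algebraMap B B' b ∈ q₀
      rw [hψ]
      exact SetLike.ext_iff.mp hQ₀c _
    obtain ⟨P, hP, hPle, hPQ⟩ := exists_mem_le (M := F ⊗[B] N) (show FlatCA.fiberIdeal p q ∈
      associatedPrimes F (F ⊗[B] N) from h) (FlatCA.fiberIdeal p' q₀) hcomap
    haveI := hP.1
    refine ⟨P.comap (ι p'), inferInstance, FibAssLib.comap_liesOver p' P,
      (Ideal.comap_mono hPle).trans hQ₀c.le, ?_, ?_⟩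
    · ext b
      show ι p' (algebraMap B B' b) ∈ P ↔ b ∈ q
      rw [← hψ]
      exact (SetLike.ext_iff.mp hPQ (ι p b)).trans (SetLike.ext_iff.mp hQc b)
    · rw [FibAssLib.eq_fiberIdeal_of_comap p' rfl]
      exact (hass P).mpr hP
  · intro q' _ _ h
    obtain ⟨hQ', hQ'c⟩ := FibAssLib.fiberIdeal_spec p' q'
    haveI := hQ'
    have h1 : (FlatCA.fiberIdeal p' q').comap (algebraMap F F') ∈ associatedPrimes F (FlatCA.fiberMod p B N) :=
      comap_mem_of_flat (M := F ⊗[B] N) ((hass _).mp h)
    haveI := h1.1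
    rw [FibAssLib.eq_fiberIdeal_of_comap p (P := (FlatCA.fiberIdeal p' q').comap (algebraMap F F'))]
    · exact h1
    · ext b
      show ψ (ι p b) ∈ FlatCA.fiberIdeal p' q' ↔ algebraMap B B' b ∈ q'
      rw [hψ]
      exact SetLike.ext_iff.mp hQ'c _
  · intro q _ _ h
    obtain ⟨hQ, hQc⟩ := FibAssLib.fiberIdeal_spec p q
    obtain ⟨P, hP, hPQ⟩ := exists_mem_of_faithfullyFlat (F' := F') (M := F ⊗[B] N) (show FlatCA.fiberIdeal p q ∈
      associatedPrimes F (F ⊗[B] N) from h)
    haveI := hP.1
    refine ⟨P.comap (ι p'), inferInstance, FibAssLib.comap_liesOver p' P, ?_, ?_⟩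
    · ext b
      show ι p' (algebraMap B B' b) ∈ P ↔ b ∈ q
      rw [← hψ]
      exact (SetLike.ext_iff.mp hPQ (ι p b)).trans (SetLike.ext_iff.mp hQc b)
    · rw [FibAssLib.eq_fiberIdeal_of_comap p' rfl]
      exact (hass P).mpr hP

end Fibre

end Groth.Agent.RelAssLib
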