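import Groth.Agent.RelAssLib.Fibre
import Groth.Agent.DimFormulaLib.Fibre
import Groth.Agent.RelAssLib.Sch
import Groth.Agent.OpenDim.Components
import Groth.Agent.FlatDim.Trdeg
import Mathlib.RingTheory.NoetherNormalization
import Mathlib.RingTheory.TensorProduct.MvPolynomial
import Mathlib.RingTheory.AlgebraicIndependent.TranscendenceBasis

/-!
# Associated points of a field extension keep their transcendence degree
-/

set_option autoImplicit false
set_option linter.style.haveILetI false
set_option linter.unusedSectionVars false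
set_option maxHeartbeats 1000000
set_option synthInstance.maxHeartbeats 200000
set_option backward.isDefEq.respectTransparency false

universe u

open TensorProduct CategoryTheory AlgebraicGeometry

noncomputable section

namespace Groth.Agent.RelAssLib

variable {k K : Type u} [Field k] [Field K] [Algebra k K]

theorem flat_of_injective_field {P L : Type u} [CommRing P] [IsDomain P] [Field L] [Algebra P L] [FaithfulSMul P L] :
    Module.Flat P L := by
  letI : Algebra (FractionRing P) L := FractionRing.liftAlgebra P L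
  haveI : IsScalarTower P (FractionRing P) L := inferInstance
  exact Module.Flat.trans P (FractionRing P) L

/-- Regular elements of `P ⊗ K` stay regular on `L ⊗ K` for `L` flat over `P`. -/
theorem regular_of_flat {P L : Type u} [CommRing P] [Algebra k P] [CommRing L] [Algebra k L] [Algebra P L]
    [IsScalarTower k P L] [Module.Flat P L] (c : P ⊗[k] K) (hc : Function.Injective (LinearMap.mulLeft P c))
    (w : L ⊗[k] K) (h : Algebra.TensorProduct.map (IsScalarTower.toAlgHom k P L) (AlgHom.id k K) c * w = 0) :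
    w = 0 := by
  let Φ := Algebra.TensorProduct.map (IsScalarTower.toAlgHom k P L) (AlgHom.id k K)
  let E : L ⊗[P] (P ⊗[k] K) ≃ₗ[L] L ⊗[k] K := AlgebraTensorModule.cancelBaseChange k P L L K
  have hE1 : ∀ (y : L) (d : P ⊗[k] K), E (y ⊗ₜ[P] d) = (y ⊗ₜ[k] (1 : K)) * Φ d := by
    intro y d
    induction d using TensorProduct.induction_on with
    | zero => simp
    | add a b ha hb => rw [TensorProduct.tmul_add, map_add, ha, hb, map_add, mul_add]
    | tmul p a =>
      simp only [E, Φ, AlgebraTensorModule.cancelBaseChange_tmul, Algebra.TensorProduct.map_tmul,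
        Algebra.TensorProduct.tmul_mul_tmul, AlgHom.coe_id, id_eq, one_mul, Algebra.smul_def,
        IsScalarTower.coe_toAlgHom']
      rw [mul_comm]
  have hE : ∀ z, E ((LinearMap.mulLeft P c).lTensor L z) = Φ c * E z := by
    intro z
    induction z using TensorProduct.induction_on with
    | zero => simp
    | add a b ha hb => simp only [map_add, ha, hb, mul_add]
    | tmul y d => rw [LinearMap.lTensor_tmul, hE1, hE1, LinearMap.mulLeft_apply, map_mul, mul_left_comm]
  have h2 : (LinearMap.mulLeft P c).lTensor L (E.symm w) = 0 := by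
    refine E.injective ?_
    rw [hE, E.apply_symm_apply, map_zero]
    exact h
  exact E.symm.map_eq_zero_iff.mp (Module.Flat.lTensor_preserves_injective_linearMap (M := L) _ hc
    (h2.trans (map_zero _).symm))

/-- Nonzero polynomials over `K` are regular on `R ⊗ K`. -/
theorem isRegular_map_of_injective {t : ℕ} {R : Type u} [CommRing R] [IsDomain R] [Algebra k R]
    (g : MvPolynomial (Fin t) k →ₐ[k] R) (hg : Function.Injective g)
    (c : MvPolynomial (Fin t) k ⊗[k] K) (hc : c ≠ 0) (z : R ⊗[k] K)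
    (h : Algebra.TensorProduct.map g (AlgHom.id k K) c * z = 0) : z = 0 := by
  let L := FractionRing R
  let j : R →ₐ[k] L := IsScalarTower.toAlgHom k R L
  have hj : Function.Injective j := IsFractionRing.injective R L
  letI : Algebra (MvPolynomial (Fin t) k) L := (j.comp g).toRingHom.toAlgebra
  haveI : IsScalarTower k (MvPolynomial (Fin t) k) L := .of_algebraMap_eq fun r => ((j.comp g).commutes r).symm
  haveI : FaithfulSMul (MvPolynomial (Fin t) k) L := (faithfulSMul_iff_algebraMap_injective _ _).2 (hj.comp hg)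
  haveI := flat_of_injective_field (P := MvPolynomial (Fin t) k) (L := L)
  haveI : IsDomain (MvPolynomial (Fin t) k ⊗[k] K) :=
    ((Algebra.TensorProduct.comm k (MvPolynomial (Fin t) k) K).toRingEquiv.trans
      (MvPolynomial.algebraTensorAlgEquiv k K (σ := Fin t)).toRingEquiv).isDomain_iff.mpr inferInstance
  let J := Algebra.TensorProduct.map j (AlgHom.id k K)
  have hJ : Function.Injective J := Module.Flat.rTensor_preserves_injective_linearMap (M := K) j.toLinearMap hj
  have e1 : IsScalarTower.toAlgHom k (MvPolynomial (Fin t) k) L = j.comp g := AlgHom.ext fun _ => rfl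
  refine hJ ((regular_of_flat c (mul_right_injective₀ hc) (J z) ?_).trans (map_zero J).symm)
  rw [e1, ← AlgHom.id_comp (AlgHom.id k K), Algebra.TensorProduct.map_comp, AlgHom.comp_apply, ← map_mul, h, map_zero]

/-- A finite injective map from a polynomial ring computes the transcendence degree. -/
theorem isTranscendenceBasis_of_finite {k R : Type u} [Field k] [CommRing R] [IsDomain R] [Algebra k R] {t : ℕ}
    (g : MvPolynomial (Fin t) k →ₐ[k] R) (hinj : Function.Injective g) (hfin : g.Finite) :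
    Algebra.trdeg k R = t := by
  have hg : MvPolynomial.aeval (fun i => g (MvPolynomial.X i)) = g := MvPolynomial.algHom_ext (by simp)
  have hind : AlgebraicIndependent k (fun i => g (MvPolynomial.X i)) := by
    rw [algebraicIndependent_iff_injective_aeval, hg]
    exact hinj
  let S0 := Algebra.adjoin k (Set.range fun i => g (MvPolynomial.X i))
  have hint : Algebra.IsIntegral S0 R := by
    constructor
    intro r
    obtain ⟨p, hp, hpr⟩ := (RingHom.IsIntegral.of_finite hfin) r
    let ψ : MvPolynomial (Fin t) k →+* S0 := (g.toRingHom).codRestrict S0 fun z => by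
      show g z ∈ S0
      rw [← hg]
      exact (Algebra.adjoin_range_eq_range_aeval k _).ge ⟨z, rfl⟩
    refine ⟨p.map ψ, hp.map _, ?_⟩
    rw [Polynomial.eval₂_map]
    exact hpr
  have hb : IsTranscendenceBasis k (fun i => g (MvPolynomial.X i)) :=
    hind.isTranscendenceBasis_iff_isAlgebraic.mpr inferInstance
  simpa using hb.lift_cardinalMk_eq_trdeg.symm

variable {F F' : Type u} [CommRing F] [Algebra k F] [Algebra.FiniteType k F] [CommRing F'] [Algebra K F']

section Ev

variable {R : Type u} [CommRing R] [Algebra k R] {t : ℕ} (g : MvPolynomial (Fin t) k →ₐ[k] R)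

/-- Evaluation of polynomials over `K`. -/
theorem eval_eq_map (χ : F' →+* R ⊗[k] K) (hK : ∀ c, χ (algebraMap K F' c) = 1 ⊗ₜ c) (τ : Fin t → F')
    (hτ : ∀ i, χ (τ i) = g (MvPolynomial.X i) ⊗ₜ 1) (c : MvPolynomial (Fin t) K) :
    χ (MvPolynomial.aeval τ c) = Algebra.TensorProduct.map g (AlgHom.id k K)
      (Algebra.TensorProduct.comm k K (MvPolynomial (Fin t) k) ((MvPolynomial.algebraTensorAlgEquiv k K).symm c)) := by
  induction c using MvPolynomial.induction_on with
  | C a =>
    rw [MvPolynomial.aeval_C, hK, MvPolynomial.C_apply, MvPolynomial.algebraTensorAlgEquiv_symm_monomial,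
      Algebra.TensorProduct.comm_tmul, Algebra.TensorProduct.map_tmul, MvPolynomial.monomial_zero', map_one, map_one,
      AlgHom.id_apply]
  | add a b ha hb => simp only [map_add, ha, hb]
  | mul_X a i ha =>
    rw [map_mul, map_mul, MvPolynomial.aeval_X, ha, hτ, map_mul, map_mul, map_mul,
      MvPolynomial.algebraTensorAlgEquiv_symm_X, Algebra.TensorProduct.comm_tmul, Algebra.TensorProduct.map_tmul,
      AlgHom.id_apply]

end Ev

/-- The kernel of the map to the extension of the quotient. -/
theorem mem_map_iff_of_equiv (e : F ⊗[k] K ≃+* F') (Q : Ideal F) (z : F') :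
    z ∈ Q.map (e.toRingHom.comp Algebra.TensorProduct.includeLeftRingHom) ↔
      Algebra.TensorProduct.map (Ideal.Quotient.mkₐ k Q) (AlgHom.id k K) (e.symm z) = 0 := by
  rw [← RingHom.mem_ker, Algebra.TensorProduct.rTensor_ker _ (Ideal.Quotient.mkₐ_surjective k Q),
    show RingHom.ker (Ideal.Quotient.mkₐ k Q) = Q from Ideal.Quotient.mkₐ_ker k Q, ← Ideal.map_map]
  exact (Ideal.mem_map_of_equiv e z).trans ⟨fun ⟨w, hw, hwz⟩ => hwz ▸ (e.symm_apply_apply w).symm ▸ hw,
    fun h => ⟨e.symm z, h, e.apply_symm_apply z⟩⟩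

/-- An associated prime of the extension of a prime has the same transcendence degree. -/
theorem trdeg_eq_of_ass (e : F ⊗[k] K ≃+* F') (he : ∀ c : K, e (1 ⊗ₜ c) = algebraMap K F' c)
    (Q : Ideal F) [Q.IsPrime] (P : Ideal F') [P.IsPrime]
    (hP : P ∈ associatedPrimes F' (F' ⧸ Q.map (e.toRingHom.comp Algebra.TensorProduct.includeLeftRingHom))) :
    Algebra.trdeg K (F' ⧸ P) = Algebra.trdeg k (F ⧸ Q) := by
  classical
  obtain ⟨t, g, hginj, hgfin⟩ := exists_finite_inj_algHom_of_fg k (F ⧸ Q)
  let mkT := Algebra.TensorProduct.map (Ideal.Quotient.mkₐ k Q) (AlgHom.id k K)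
  let χ : F' →+* (F ⧸ Q) ⊗[k] K := mkT.toRingHom.comp e.symm.toRingHom
  let J : Ideal F' := Q.map (e.toRingHom.comp Algebra.TensorProduct.includeLeftRingHom)
  obtain ⟨hPp, x, hx⟩ := hP
  obtain ⟨x, rfl⟩ := Ideal.Quotient.mk_surjective x
  have hcolon : ∀ a : F', a ∈ (⊥ : Submodule F' (F' ⧸ J)).colon {Ideal.Quotient.mk J x} ↔ χ a * χ x = 0 := fun a => by
    rw [Submodule.mem_colon_singleton, Submodule.mem_bot, ← Ideal.Quotient.mk_eq_mk, ← Submodule.Quotient.mk_smul,
      Submodule.Quotient.mk_eq_zero, ← map_mul]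
    exact mem_map_iff_of_equiv e Q _
  have hχx : χ x ≠ 0 := fun h => hPp.ne_top (by
    rw [hx, Ideal.eq_top_iff_one]
    exact Ideal.le_radical ((hcolon 1).mpr (by rw [h, mul_zero])))
  choose T hT using fun i => Ideal.Quotient.mk_surjective (g (MvPolynomial.X i))
  let τ : Fin t → F' := fun i => e (T i ⊗ₜ 1)
  have hχτ : ∀ i, χ (τ i) = g (MvPolynomial.X i) ⊗ₜ 1 := fun i => by
    show mkT (e.symm (e (T i ⊗ₜ 1))) = _
    rw [e.symm_apply_apply, Algebra.TensorProduct.map_tmul, Ideal.Quotient.mkₐ_eq_mk, hT, AlgHom.id_apply]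
  have hχK : ∀ c, χ (algebraMap K F' c) = 1 ⊗ₜ c := fun c => by
    show mkT (e.symm (algebraMap K F' c)) = _
    rw [← he, e.symm_apply_apply, Algebra.TensorProduct.map_tmul, map_one, AlgHom.id_apply]
  have hind : AlgebraicIndependent K (fun i => Ideal.Quotient.mk P (τ i)) := by
    rw [algebraicIndependent_iff]
    intro c hc
    by_contra hne
    have hmem : MvPolynomial.aeval τ c ∈ P := by
      rw [← Ideal.Quotient.eq_zero_iff_mem, ← hc]
      exact MvPolynomial.comp_aeval_apply (φ := Ideal.Quotient.mkₐ K P) τ c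
    rw [hx, Ideal.mem_radical_iff] at hmem
    obtain ⟨m, hm⟩ := hmem
    have h1 := (hcolon _).mp hm
    rw [map_pow, eval_eq_map g χ hχK τ hχτ, ← map_pow] at h1
    refine hχx (isRegular_map_of_injective g hginj _ ?_ _ h1)
    haveI : IsDomain (MvPolynomial (Fin t) k ⊗[k] K) :=
      ((Algebra.TensorProduct.comm k (MvPolynomial (Fin t) k) K).toRingEquiv.trans
        (MvPolynomial.algebraTensorAlgEquiv k K (σ := Fin t)).toRingEquiv).isDomain_iff.mpr inferInstance
    refine pow_ne_zero m fun h => hne ?_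
    rwa [EmbeddingLike.map_eq_zero_iff, EmbeddingLike.map_eq_zero_iff] at h
  let S0 := Algebra.adjoin K (Set.range fun i => Ideal.Quotient.mk P (τ i))
  have hint : Algebra.IsIntegral S0 (F' ⧸ P) := by
    constructor
    intro y
    obtain ⟨z, rfl⟩ := Ideal.Quotient.mk_surjective y
    obtain ⟨w, rfl⟩ := e.surjective z
    induction w using TensorProduct.induction_on with
    | zero => rw [map_zero, map_zero]; exact isIntegral_zero
    | add a b ha hb => rw [map_add, map_add]; exact ha.add hb
    | tmul r a =>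
      rw [show r ⊗ₜ[k] a = (r ⊗ₜ 1) * (1 ⊗ₜ a) by rw [Algebra.TensorProduct.tmul_mul_tmul, mul_one, one_mul],
        map_mul, map_mul, he]
      refine IsIntegral.mul ?_ (isIntegral_algebraMap (R := S0) (A := F' ⧸ P) (x := ⟨_, S0.algebraMap_mem a⟩))
      obtain ⟨p, hp, hpr⟩ := (RingHom.IsIntegral.of_finite hgfin) (Ideal.Quotient.mk Q r)
      let θ : F →+* F' ⧸ P := (Ideal.Quotient.mk P).comp (e.toRingHom.comp Algebra.TensorProduct.includeLeftRingHom)
      have hθQ : ∀ q ∈ Q, θ q = 0 := fun q hq => by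
        refine Ideal.Quotient.eq_zero_iff_mem.mpr ?_
        rw [hx]
        refine Ideal.le_radical ((hcolon _).mpr ?_)
        rw [← map_mul]
        exact (mem_map_iff_of_equiv e Q _).mp (Ideal.mul_mem_right _ _ (Ideal.mem_map_of_mem _ hq))
      let θ' : F ⧸ Q →+* F' ⧸ P := Ideal.Quotient.lift Q θ hθQ
      have hθk : ∀ c : k, θ' (algebraMap k (F ⧸ Q) c) = algebraMap K (F' ⧸ P) (algebraMap k K c) := fun c => by
        show Ideal.Quotient.mk P (e (algebraMap k F c ⊗ₜ 1)) = Ideal.Quotient.mk P (algebraMap K F' (algebraMap k K c))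
        rw [← he]
        congr 2
        rw [Algebra.algebraMap_eq_smul_one, Algebra.algebraMap_eq_smul_one, TensorProduct.smul_tmul]
      have hrange : ∀ q : MvPolynomial (Fin t) k, θ' (g q) ∈ S0 := by
        intro q
        induction q using MvPolynomial.induction_on with
        | C c => rw [← MvPolynomial.algebraMap_eq, g.commutes, hθk]; exact S0.algebraMap_mem _
        | add a b ha hb => rw [map_add, map_add]; exact add_mem ha hb
        | mul_X a i ha =>
          rw [map_mul, map_mul]
          refine mul_mem ha (Algebra.subset_adjoin ⟨i, ?_⟩)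
          rw [← hT]; rfl
      refine ⟨p.map ((θ'.comp g.toRingHom).codRestrict S0 hrange), hp.map _, ?_⟩
      rw [Polynomial.eval₂_map]
      have h2 := congrArg θ' hpr
      rw [Polynomial.hom_eval₂, map_zero] at h2
      exact h2
  have hbasis : IsTranscendenceBasis K (fun i => Ideal.Quotient.mk P (τ i)) :=
    hind.isTranscendenceBasis_iff_isAlgebraic.mpr inferInstance
  rw [isTranscendenceBasis_of_finite g hginj hgfin]
  simpa using hbasis.lift_cardinalMk_eq_trdeg.symm

section Fibre

open Groth.Agent.CAlgFib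

variable {A A' B B' N N' : Type u} [CommRing A] [CommRing A'] [CommRing B] [CommRing B'] [Algebra A A'] [Algebra A B]
  [Algebra A' B'] [Algebra B B'] [Algebra A B'] [IsScalarTower A A' B'] [IsScalarTower A B B']
  [Algebra.IsPushout A A' B B'] [AddCommGroup N] [Module B N] [AddCommGroup N'] [Module B' N'] [Module B N']
  [IsScalarTower B B' N']

attribute [local instance] Algebra.TensorProduct.rightAlgebra

/-- The fibre ring of a base change is the extension of the fibre ring. -/
theorem exists_fiber_equiv (p : Ideal A) [p.IsPrime] (p' : Ideal A') [p'.IsPrime] [p'.LiesOver p] :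
    letI := Localization.AtPrime.algebraOfLiesOver p p'
    ∃ e : p.Fiber B ⊗[p.ResidueField] p'.ResidueField ≃+* p'.Fiber B',
      (∀ c : p'.ResidueField, e (1 ⊗ₜ c) = algebraMap p'.ResidueField (p'.Fiber B') c) ∧
      ∀ b : B, e (ι p b ⊗ₜ 1) = ι p' (algebraMap B B' b) := by
  letI := Localization.AtPrime.algebraOfLiesOver p p'
  refine ⟨((Algebra.TensorProduct.comm p.ResidueField (p.Fiber B) p'.ResidueField).toRingEquiv.trans
      (Algebra.TensorProduct.cancelBaseChange A p.ResidueField p'.ResidueField p'.ResidueField B :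
        p'.ResidueField ⊗[p.ResidueField] (p.Fiber B) ≃ₐ[p'.ResidueField] p'.ResidueField ⊗[A] B).toRingEquiv).trans
      ((Algebra.TensorProduct.cancelBaseChange A A' A' p'.ResidueField B).toRingEquiv.symm.trans
        (Algebra.TensorProduct.congr (AlgEquiv.refl (R := A') (A₁ := p'.ResidueField)) (Algebra.IsPushout.equiv A A' B B')).toRingEquiv),
      fun c => ?_, fun b => ?_⟩
  · show Algebra.TensorProduct.congr (AlgEquiv.refl (R := A') (A₁ := p'.ResidueField)) (Algebra.IsPushout.equiv A A' B B')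
      ((Algebra.TensorProduct.cancelBaseChange A A' A' p'.ResidueField B).symm
        (Algebra.TensorProduct.cancelBaseChange A p.ResidueField p'.ResidueField p'.ResidueField B
          (Algebra.TensorProduct.comm p.ResidueField (p.Fiber B) p'.ResidueField (((1 : p.ResidueField) ⊗ₜ[A] (1 : B)) ⊗ₜ[p.ResidueField] c)))) = _
    simp [Algebra.IsPushout.equiv_tmul]
  · show Algebra.TensorProduct.congr (AlgEquiv.refl (R := A') (A₁ := p'.ResidueField)) (Algebra.IsPushout.equiv A A' B B')
      ((Algebra.TensorProduct.cancelBaseChange A A' A' p'.ResidueField B).symm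
        (Algebra.TensorProduct.cancelBaseChange A p.ResidueField p'.ResidueField p'.ResidueField B
          (Algebra.TensorProduct.comm p.ResidueField (p.Fiber B) p'.ResidueField ((1 ⊗ₜ[A] b) ⊗ₜ[p.ResidueField] 1)))) = _
    simp [Algebra.IsPushout.equiv_tmul]

variable (f : N →ₗ[B] N') (hf : IsBaseChange B' f) (p : Ideal A) [p.IsPrime] (p' : Ideal A') [p'.IsPrime] [p'.LiesOver p]
  [Algebra.FiniteType A B] [Algebra.FiniteType A' B']

include hf in
theorem trdeg_quotient_eq_of_ass (q' : Ideal B') [q'.IsPrime] [q'.LiesOver p'] [(q'.under B).LiesOver p]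
    (h : FlatCA.fiberIdeal p' q' ∈ associatedPrimes (p'.Fiber B') (FlatCA.fiberMod p' B' N')) :
    Algebra.trdeg (A' ⧸ p') (B' ⧸ q') = Algebra.trdeg (A ⧸ p) (B ⧸ q'.under B) := by
  letI := Localization.AtPrime.algebraOfLiesOver p p'
  obtain ⟨e, he1, he2⟩ := exists_fiber_equiv (A := A) (A' := A') (B := B) (B' := B') p p'
  let F := p.Fiber B
  let F' := p'.Fiber B'
  let ψ : F →+* F' := e.toRingHom.comp Algebra.TensorProduct.includeLeftRingHom
  letI : Algebra F F' := ψ.toAlgebra
  haveI : Module.FaithfullyFlat F F' := by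
    haveI : Module.FaithfullyFlat p.ResidueField p'.ResidueField := inferInstance
    haveI : Module.FaithfullyFlat F (F ⊗[p.ResidueField] p'.ResidueField) := inferInstance
    exact Module.FaithfullyFlat.of_linearEquiv F _
      ({ e.toAddEquiv with
        map_smul' := fun a x => by
          show e (a • x) = ψ a * e x
          rw [show ψ a = e (Algebra.TensorProduct.includeLeftRingHom a) from rfl, ← map_mul]
          congr 1
          exact Algebra.smul_def a x } : (F ⊗[p.ResidueField] p'.ResidueField) ≃ₗ[F] F').symm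
  letI : Algebra B F' := ((ι p').comp (algebraMap B B')).toAlgebra
  haveI : IsScalarTower B B' F' := .of_algebraMap_eq fun _ => rfl
  haveI : IsScalarTower B F F' := .of_algebraMap_eq fun b => (he2 b).symm
  haveI : IsNoetherianRing F := FibAssLib.isNoetherianRing_fiber p
  haveI : IsNoetherianRing F' := FibAssLib.isNoetherianRing_fiber p'
  haveI : Algebra.FiniteType p.ResidueField F := inferInstance
  letI : Module B (F' ⊗[B'] N') := TensorProduct.leftModule
  haveI : IsScalarTower B B' (F' ⊗[B'] N') := TensorProduct.isScalarTower_left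
  haveI : IsScalarTower B F' (F' ⊗[B'] N') := TensorProduct.isScalarTower_left
  have hbc : IsBaseChange F' (((TensorProduct.mk B' F' N' 1).restrictScalars B).comp f) :=
    hf.comp (TensorProduct.isBaseChange B' N' F')
  let E : F' ⊗[F] (F ⊗[B] N) ≃ₗ[F'] F' ⊗[B'] N' :=
    (AlgebraTensorModule.cancelBaseChange B F F' F' N).trans hbc.equiv
  obtain ⟨hQ', hQ'c⟩ := FibAssLib.fiberIdeal_spec p' q'
  obtain ⟨hQ, hQc⟩ := FibAssLib.fiberIdeal_spec p (q'.under B)
  haveI := hQ'
  haveI := hQ
  have hcomap : (FlatCA.fiberIdeal p' q').comap ψ = FlatCA.fiberIdeal p (q'.under B) := by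
    refine (FibAssLib.eq_fiberIdeal_of_comap p ?_).symm
    ext b
    show ψ (ι p b) ∈ FlatCA.fiberIdeal p' q' ↔ algebraMap B B' b ∈ q'
    rw [show ψ (ι p b) = ι p' (algebraMap B B' b) from he2 b]
    exact SetLike.ext_iff.mp hQ'c _
  have hmem : FlatCA.fiberIdeal p' q' ∈ associatedPrimes F' (F' ⊗[F] (F ⊗[B] N)) := by
    rw [LinearEquiv.AssociatedPrimes.eq E]
    exact h
  rw [Groth.Agent.S2069.result] at hmem
  obtain ⟨Q0, hQ0, hP⟩ := Set.mem_iUnion₂.mp hmem
  haveI := hQ0.1
  have hQ0eq : Q0 = FlatCA.fiberIdeal p (q'.under B) := (comap_eq_of_mem Q0 hP).symm.trans hcomap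
  subst hQ0eq
  rw [smul_eq_mul, Ideal.mul_top] at hP
  have key := trdeg_eq_of_ass e he1 (FlatCA.fiberIdeal p (q'.under B)) (FlatCA.fiberIdeal p' q') hP
  rw [DimFormulaLib.trdeg_fibre p' q' _ hQ'c, DimFormulaLib.trdeg_fibre p (q'.under B) _ hQc] at key
  exact key

end Fibre

section Sch

open DimFormulaLib

variable {X Y X' S' : Scheme.{u}} (f : X ⟶ Y) [LocallyOfFiniteType f] {g : S' ⟶ Y} {f' : X' ⟶ S'} {g' : X' ⟶ X}

/-- The transcendence degree of a point in affine charts. -/
theorem resTrdegAt_chart {V : Y.Opens} (hV : IsAffineOpen V) {W : X.Opens} (hW : IsAffineOpen W) (e : W ≤ f ⁻¹ᵁ V)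
    (x : X) (hx : x ∈ W) :
    letI := (f.appLE V W e).hom.toAlgebra
    resTrdegAt f x = Algebra.trdeg (Γ(Y, V) ⧸ (AssLib.pr hW hx).comap (algebraMap Γ(Y, V) Γ(X, W)))
      (Γ(X, W) ⧸ AssLib.pr hW hx) := by
  letI := (f.appLE V W e).hom.toAlgebra
  haveI : Algebra.FiniteType Γ(Y, V) Γ(X, W) := f.finiteType_appLE hV hW e
  let c : Chart f x := ⟨Γ(Y, V), Γ(X, W), hV.fromSpec, hW.fromSpec,
    (IsAffineOpen.SpecMap_appLE_fromSpec f hV hW e).symm, hW.primeIdealOf ⟨x, hx⟩, hW.fromSpec_primeIdealOf ⟨x, hx⟩⟩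
  exact c.resTrdegAt_self

/-- Relative associated points keep their transcendence degree under base change. -/
theorem resTrdegAt_of_relAss (F : X.Modules) [Coh.IsQCoh F] (hc : IsPullback g' f' f g) [LocallyOfFiniteType f'] {x' : X'}
    (hx' : x' ∈ MoreMor.relAss f' ((Scheme.Modules.pullback g').obj F)) :
    resTrdegAt f' x' = resTrdegAt f (g' x') := by
  let gF := (Scheme.Modules.pullback g').obj F
  haveI : Coh.IsQCoh gF := PullbackMod.isQCoh_pullback g' F
  obtain ⟨V, W, V', hV, hW, hV', e, e', hxW, hxV'⟩ := PullbackMod.exists_affines hc x'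
  obtain ⟨hW', hpo⟩ := PullbackMod.isPushout_appLE hc hV hW hV' e e'
  let W' := g' ⁻¹ᵁ W ⊓ f' ⁻¹ᵁ V'
  have hxW' : x' ∈ W' := ⟨hxW, hxV'⟩
  letI : Algebra Γ(Y, V) Γ(X, W) := (f.appLE V W e).hom.toAlgebra
  letI : Algebra Γ(Y, V) Γ(S', V') := (g.appLE V V' e').hom.toAlgebra
  letI : Algebra Γ(X, W) Γ(X', W') := (g'.appLE W W' inf_le_left).hom.toAlgebra
  letI : Algebra Γ(S', V') Γ(X', W') := (f'.appLE V' W' inf_le_right).hom.toAlgebra
  letI : Algebra Γ(Y, V) Γ(X', W') :=
    ((g'.appLE W W' inf_le_left).hom.comp (f.appLE V W e).hom).toAlgebra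
  haveI : IsScalarTower Γ(Y, V) Γ(X, W) Γ(X', W') := .of_algebraMap_eq fun _ => rfl
  haveI : IsScalarTower Γ(Y, V) Γ(S', V') Γ(X', W') := .of_algebraMap_eq' (by
      show ((f.appLE V W e) ≫ g'.appLE W _ inf_le_left).hom =
        ((g.appLE V V' e') ≫ f'.appLE V' _ inf_le_right).hom
      simp only [Scheme.Hom.appLE_comp_appLE, hc.w])
  haveI : Algebra.IsPushout Γ(Y, V) Γ(S', V') Γ(X, W) Γ(X', W') := hpo
  haveI : Algebra.FiniteType Γ(Y, V) Γ(X, W) := f.finiteType_appLE hV hW e
  haveI : Algebra.FiniteType Γ(S', V') Γ(X', W') := f'.finiteType_appLE hV' hW' inf_le_right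
  letI := Module.compHom Γ(gF, W') (g'.appLE W W' inf_le_left).hom
  haveI : IsScalarTower Γ(X, W) Γ(X', W') Γ(gF, W') := .of_algebraMap_smul fun _ _ => rfl
  have hf := PullbackMod.isBaseChange_pullMapL g' F hW hW' (show W' ≤ g' ⁻¹ᵁ W from inf_le_left)
  let q' := AssLib.pr hW' hxW'
  have hq : q'.under Γ(X, W) = AssLib.pr hW hxW :=
    congr($(IsAffineOpen.comap_primeIdealOf_appLE W hW W' hW' inf_le_left hxW').1)
  let p' := q'.comap (algebraMap Γ(S', V') Γ(X', W'))
  let p := (AssLib.pr hW hxW).comap (algebraMap Γ(Y, V) Γ(X, W))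
  haveI : p'.LiesOver p := ⟨by
    show p = (q'.comap (algebraMap Γ(S', V') Γ(X', W'))).comap (algebraMap Γ(Y, V) Γ(S', V'))
    rw [Ideal.comap_comap, ← IsScalarTower.algebraMap_eq, IsScalarTower.algebraMap_eq Γ(Y, V) Γ(X, W) Γ(X', W'),
      ← Ideal.comap_comap]
    show p = (q'.under Γ(X, W)).comap (algebraMap Γ(Y, V) Γ(X, W))
    rw [hq]⟩
  haveI : (q'.under Γ(X, W)).LiesOver p := ⟨by rw [hq]⟩
  haveI : q'.LiesOver p' := ⟨rfl⟩
  have hp' : (hV'.primeIdealOf ⟨f' x', hxV'⟩).asIdeal = p' :=
    (congr($(IsAffineOpen.comap_primeIdealOf_appLE V' hV' W' hW' inf_le_right hxW').1)).symm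
  have h1 := trdeg_quotient_eq_of_ass (A := Γ(Y, V)) (A' := Γ(S', V')) (B := Γ(X, W)) (B' := Γ(X', W'))
    (PullbackMod.pullMapL g' F (show W' ≤ g' ⁻¹ᵁ W from inf_le_left)) hf p p' q'
    (FlatAssLib.mem_assocFibre_congr hp' rfl ((mem_relAss_iff f' gF hV' hW' inf_le_right x' hxW').mp hx'))
  rw [resTrdegAt_chart f' hV' hW' inf_le_right x' hxW', resTrdegAt_chart f hV hW e (g' x') hxW]
  have h2 : ∀ (Q : Ideal Γ(X, W)) (_ : Q = AssLib.pr hW hxW) [Q.LiesOver p],
      Algebra.trdeg (Γ(Y, V) ⧸ p) (Γ(X, W) ⧸ Q) = Algebra.trdeg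
        (Γ(Y, V) ⧸ (AssLib.pr hW hxW).comap (algebraMap Γ(Y, V) Γ(X, W))) (Γ(X, W) ⧸ AssLib.pr hW hxW) := by
    rintro Q rfl _
    rfl
  exact h1.trans (h2 _ hq)

end Sch

end Groth.Agent.RelAssLib
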