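import Groth.Agent.RelAssLib.Specialize
import Groth.Agent.RelAssLib.Trdeg
import Groth.Agent.S14887
import Groth.Agent.OpenDim.Components

/-!
# The closure of a relative associated point has constant relative dimension
-/

set_option autoImplicit false
set_option linter.style.haveILetI false
set_option maxHeartbeats 1000000
set_option backward.isDefEq.respectTransparency false

universe u

open CategoryTheory Limits AlgebraicGeometry Groth.Agent.OpenDim

noncomputable section

namespace Groth.Agent.RelAssLib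

/-- A maximal point in a fibre of the closure of a relative associated point, with its degree. -/
theorem trd_eq_of_maximal {X S : Scheme.{u}} (f : X ⟶ S) [LocallyOfFiniteType f] (F : X.Modules) [Coh.IsQCoh F]
    (hF : CohB1.IsFT F) {y x : X} (hy : y ∈ MoreMor.relAss f F) (hyx : y ⤳ x)
    (hmax : ∀ z : X, y ⤳ z → f z = f x → z ⤳ x → z = x)
    (hflat : FlatMod.IsFlatOverAt f F x) : trd f x = trd f y := by
  refine le_antisymm ?_ ?_
  swap
  · obtain ⟨w, hyw, hwx, hfw, hle⟩ := exists_trd_ge f hyx
    rwa [hmax w hyw hfw hwx] at hle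
  obtain ⟨A, hA, hA', l, hlc, hlg⟩ := HTopV.exists_valuationRing_of_specializes hyx
  let g := l ≫ f
  let X' := pullback f g
  let g' : X' ⟶ X := pullback.fst f g
  let f' : X' ⟶ Spec A := pullback.snd f g
  have hc : IsPullback g' f' f g := IsPullback.of_hasPullback f g
  let σ : Spec A ⟶ X' := pullback.lift l (𝟙 _) (by simp [g])
  have hσg : ∀ w, g' (σ w) = l w := fun w => by
    rw [← Scheme.Hom.comp_apply, pullback.lift_fst]
  have hσf : ∀ w, f' (σ w) = w := fun w => by
    rw [← Scheme.Hom.comp_apply, pullback.lift_snd]; rfl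
  haveI : LocallyOfFiniteType f' := MorphismProperty.pullback_snd _ _ inferInstance
  let gF := (Scheme.Modules.pullback g').obj F
  haveI : Coh.IsQCoh gF := PullbackMod.isQCoh_pullback g' F
  obtain ⟨-, -, h3⟩ := relAss_baseChange f F hc
  obtain ⟨y', hy', hy'σ, hgy', hfy'⟩ := h3 (σ (HTopV.genPt A)) (by rw [hσg, hlg]; exact hy)
  have hy'x : y' ⤳ σ (IsLocalRing.closedPoint A) :=
    hy'σ.trans ((HTopV.genPt_specializes A _).map σ.continuous)
  obtain ⟨x', hy'x', hx'σ, hfx', hmax'⟩ := exists_maximal_in_fibre f' y' _ hy'x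
  rw [hσf] at hfx'
  rw [hσf] at hfy'
  rw [hσg, hlg] at hgy'
  have hgx' : g' x' = x := by
    refine hmax _ (hgy' ▸ hy'x'.map g'.continuous) ?_ ?_
    · rw [← Scheme.Hom.comp_apply, hc.w, Scheme.Hom.comp_apply, hfx', ← hlc, ← Scheme.Hom.comp_apply]
    · have := hx'σ.map g'.continuous
      rwa [hσg, hlc] at this
  have hflat' : FlatMod.IsFlatOverAt f' gF x' := PullbackMod.isFlatOverAt_baseChange hc F x' (hgx'.symm ▸ hflat)
  have hx' : x' ∈ MoreMor.relAss f' gF := mem_relAss_of_valuation f' gF (FittStratum.isFT_pullback F hF g') hy' hfy'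
    hfx' hy'x' (fun z hz hfz hzx => hmax' z hz hfz hzx) hflat'
  have e1 : trd f' x' = trd f x := by
    have := resTrdegAt_of_relAss f F hc hx'
    rw [resTrdegAt_eq_trd, resTrdegAt_eq_trd, hgx'] at this
    exact_mod_cast this
  have e2 : trd f' y' = trd f y := by
    have := resTrdegAt_of_relAss f F hc hy'
    rw [resTrdegAt_eq_trd, resTrdegAt_eq_trd, hgy'] at this
    exact_mod_cast this
  rw [← e1, ← e2]
  exact Groth.Agent.S14887.trd_le_of_specializes (A := A) f' hy'x'

end Groth.Agent.RelAssLib
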