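import Groth.Agent.RelAssLib.Generic

/-!
# Associated points of fibres near the generic fibre
-/

set_option autoImplicit false
set_option linter.style.haveILetI false
set_option linter.unusedSectionVars false
set_option maxHeartbeats 1000000
set_option synthInstance.maxHeartbeats 200000
set_option backward.isDefEq.respectTransparency false

universe u

open CategoryTheory Limits AlgebraicGeometry TopologicalSpace TensorProduct

noncomputable section

namespace Groth.Agent.RelAssLib

/-- A map injective on the generic fibre with generically free target cokernel stays injective on fibres. -/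
theorem lTensor_injective_of_freeAt {A M M' C : Type u} [CommRing A] [IsDomain A] [AddCommGroup M] [Module A M]
    [AddCommGroup M'] [Module A M'] [AddCommGroup C] [Module A C] (φ : M →ₗ[A] M') (π : M' →ₗ[A] C)
    (hex : Function.Exact φ π) (hπ : Function.Surjective π) {a : A} (ha : a ≠ 0) (hM : GenFree.FreeAt A M a)
    (hC : GenFree.FreeAt A C a) (hK : ∀ n : M, (∃ t : A, t ≠ 0 ∧ t • φ n = 0) → ∃ t : A, t ≠ 0 ∧ t • n = 0)
    (p : Ideal A) [p.IsPrime] (hap : a ∉ p) : Function.Injective (φ.lTensor p.ResidueField) := by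
  let A' := Localization.Away a
  haveI : Module.Free A' (A' ⊗[A] M) := hM
  haveI : Module.Free A' (A' ⊗[A] C) := hC
  haveI : IsDomain A' := IsLocalization.isDomain_localization (powers_le_nonZeroDivisors_of_noZeroDivisors ha)
  haveI : IsLocalizedModule (Submonoid.powers a) (TensorProduct.mk A A' M 1) :=
    (isLocalizedModule_iff_isBaseChange (Submonoid.powers a) A' _).mpr (TensorProduct.isBaseChange _ _ _)
  haveI : IsLocalizedModule (Submonoid.powers a) (TensorProduct.mk A A' M' 1) :=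
    (isLocalizedModule_iff_isBaseChange (Submonoid.powers a) A' _).mpr (TensorProduct.isBaseChange _ _ _)
  have hinj : Function.Injective (φ.baseChange A') := by
    refine (injective_iff_map_eq_zero _).mpr fun z hz => ?_
    obtain ⟨⟨n, ⟨_, k, rfl⟩⟩, hk⟩ := IsLocalizedModule.surj (Submonoid.powers a) (TensorProduct.mk A A' M 1) z
    have hk' : a ^ k • z = (1 : A') ⊗ₜ[A] n := hk
    have h1 : (1 : A') ⊗ₜ[A] φ n = 0 := by
      rw [← LinearMap.baseChange_tmul (A := A') (f := φ), ← hk', LinearMap.map_smul_of_tower, hz, smul_zero]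
    obtain ⟨⟨_, l, rfl⟩, hl⟩ := (IsLocalizedModule.eq_zero_iff (Submonoid.powers a)
      (TensorProduct.mk A A' M' 1)).mp h1
    obtain ⟨t, ht, htn⟩ := hK n ⟨a ^ l, pow_ne_zero l ha, hl⟩
    have h2 : t • ((1 : A') ⊗ₜ[A] n) = 0 := by rw [← TensorProduct.tmul_smul, htn, TensorProduct.tmul_zero]
    rw [← hk', ← algebraMap_smul A' t, ← algebraMap_smul A' (a ^ k), smul_smul, ← map_mul] at h2
    refine (smul_eq_zero.mp h2).resolve_left fun h => mul_ne_zero ht (pow_ne_zero k ha) ?_
    exact IsLocalization.injective A' (powers_le_nonZeroDivisors_of_noZeroDivisors ha) (h.trans (map_zero _).symm)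
  have hexA : Function.Exact (φ.baseChange A') (π.baseChange A') := lTensor_exact A' hex hπ
  have hsurjA : Function.Surjective (π.baseChange A') := LinearMap.lTensor_surjective A' hπ
  let K := p.ResidueField
  letI : Algebra A' K := (IsLocalization.Away.lift a (g := algebraMap A K)
    (IsUnit.mk0 _ fun h => hap (Ideal.algebraMap_residueField_eq_zero.mp h))).toAlgebra
  haveI : IsScalarTower A A' K := .of_algebraMap_eq fun r => (IsLocalization.Away.lift_eq a _ r).symm
  have h1 := LinearMap.lTensor_injective_of_exact_of_flat (π.baseChange A') hsurjA (φ.baseChange A') hinj hexA K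
  let e₁ := AlgebraTensorModule.cancelBaseChange A A' K K M
  let e₂ := AlgebraTensorModule.cancelBaseChange A A' K K M'
  have he : ∀ x, e₂ ((φ.baseChange A').lTensor K x) = φ.lTensor K (e₁ x) := by
    intro x
    induction x using TensorProduct.induction_on with
    | zero => simp
    | add x y hx hy => simp only [map_add, hx, hy]
    | tmul c z =>
      induction z using TensorProduct.induction_on with
      | zero => simp
      | add x y hx hy => simp only [map_add, TensorProduct.tmul_add, hx, hy]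
      | tmul c' n => simp [e₁, e₂]
  intro x y hxy
  have := h1 (e₂.injective (a₁ := (φ.baseChange A').lTensor K (e₁.symm x))
    (a₂ := (φ.baseChange A').lTensor K (e₁.symm y)) (by rw [he, he, e₁.apply_symm_apply, e₁.apply_symm_apply]; exact hxy))
  exact e₁.symm.injective this

open Groth.Agent.CAlgFib in
/-- Fibrewise injectivity of a family keeps associated points out of its zero set. -/
theorem exists_notMem_of_injective {A B N : Type u} [CommRing A] [CommRing B] [Algebra A B]
    [AddCommGroup N] [Module B N] [Module A N] [IsScalarTower A B N] {r : ℕ} (g : Fin r → B)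
    (p : Ideal A) [p.IsPrime] [IsNoetherianRing (p.Fiber B)]
    (φ : N →ₗ[A] (Fin r → N)) (hφ : ∀ n i, φ n i = g i • n) (hKinj : Function.Injective (φ.lTensor p.ResidueField))
    (q : Ideal B) [q.IsPrime] [q.LiesOver p]
    (hass : FlatCA.fiberIdeal p q ∈ associatedPrimes (p.Fiber B) (FlatCA.fiberMod p B N)) : ∃ i, g i ∉ q := by
  classical
  obtain ⟨n, hn⟩ := PureLib.exists_elem_of_ass p N q hass
  by_contra hall
  push Not at hall
  choose t ht htv using fun i => (hn (g i)).mp (hall i)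
  let T := ∏ i, t i
  have hT : T ∉ p := fun h => by
    obtain ⟨i, -, hi⟩ := (Ideal.IsPrime.prod_mem_iff (hp := ‹p.IsPrime›)).1 h
    exact ht i hi
  have hi : ∀ i, (1 : p.ResidueField) ⊗ₜ[A] (g i • T • n) = 0 := fun i => by
    have h1 : g i • T • n ∈ p • (⊤ : Submodule A N) := by
      have h2 : algebraMap A B T • g i • n ∈ p.map (algebraMap A B) • (⊤ : Submodule B N) := by
        rw [show T = (∏ j ∈ Finset.univ.erase i, t j) * t i from (Finset.prod_erase_mul _ t (Finset.mem_univ i)).symm,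
          map_mul, mul_smul]
        exact Submodule.smul_mem _ _ (htv i)
      rw [← Submodule.restrictScalars_top A B N, ← Ideal.smul_restrictScalars, smul_comm, ← algebraMap_smul B T]
      exact h2
    refine Submodule.smul_induction_on h1 (fun x hx z _ => ?_) fun x y hx hy => by rw [TensorProduct.tmul_add, hx, hy, add_zero]
    rw [TensorProduct.tmul_smul, TensorProduct.smul_tmul', Algebra.smul_def, mul_one,
      Ideal.algebraMap_residueField_eq_zero.mpr hx, TensorProduct.zero_tmul]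
  have hzero : φ.lTensor p.ResidueField ((1 : p.ResidueField) ⊗ₜ[A] (T • n)) = 0 := by
    rw [LinearMap.lTensor_tmul,
      show φ (T • n) = ∑ i, LinearMap.single A (fun _ => N) i (g i • T • n) from
      (funext fun i => hφ _ i).trans (Finset.univ_sum_single (fun i => g i • T • n)).symm, TensorProduct.tmul_sum]
    exact Finset.sum_eq_zero fun i _ => by rw [← LinearMap.lTensor_tmul, hi, map_zero]
  obtain ⟨s, hs, hsn⟩ := exists_of_one_tmul_eq_zero p _ ((injective_iff_map_eq_zero _).mp hKinj _ hzero)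
  refine (Ideal.ne_top_iff_one q).mp (Ideal.IsPrime.ne_top inferInstance) ((hn 1).mpr ⟨s * T, fun h => ?_, ?_⟩)
  · exact ((Ideal.IsPrime.mem_or_mem ‹_› h).elim hs hT)
  · rw [one_smul, algebraMap_smul, mul_smul]
    rw [← Submodule.restrictScalars_top A B N, ← Ideal.smul_restrictScalars] at hsn
    exact hsn

open Groth.Agent.CAlgFib in
/-- Fibrewise injectivity from generic freeness of the cokernel, for maps over an algebra. -/
theorem lTensor_injective_restrict {A B M M' C : Type u} [CommRing A] [IsDomain A] [CommRing B] [Algebra A B]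
    [AddCommGroup M] [Module A M] [Module B M] [IsScalarTower A B M] [AddCommGroup M'] [Module A M'] [Module B M']
    [IsScalarTower A B M'] [AddCommGroup C] [Module A C] [Module B C] [IsScalarTower A B C]
    (φ : M →ₗ[B] M') (π : M' →ₗ[B] C) (hex : Function.Exact φ π) (hπ : Function.Surjective π) {a : A} (ha : a ≠ 0)
    (hM : GenFree.FreeAt A M a) (hC : GenFree.FreeAt A C a)
    (hK : ∀ n : M, (∃ t : A, t ≠ 0 ∧ t • φ n = 0) → ∃ t : A, t ≠ 0 ∧ t • n = 0)
    (p : Ideal A) [p.IsPrime] (hap : a ∉ p) : Function.Injective ((φ.restrictScalars A).lTensor p.ResidueField) :=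
  lTensor_injective_of_freeAt (φ.restrictScalars A) (π.restrictScalars A) hex hπ ha hM hC hK p hap

/-- Regular families on the generic fibre stay regular on fibres over a dense open. -/
theorem exists_forall_not_le_of_generic {A B N : Type u} [CommRing A] [IsDomain A] [CommRing B] [Algebra A B]
    [Algebra.FiniteType A B] [AddCommGroup N] [Module B N] [Module A N] [IsScalarTower A B N] [Module.Finite B N]
    {r : ℕ} (g : Fin r → B) (hK : ∀ n : N, (∀ i, ∃ t : A, t ≠ 0 ∧ t • g i • n = 0) → ∃ t : A, t ≠ 0 ∧ t • n = 0) :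
    ∃ a : A, a ≠ 0 ∧ ∀ (p : Ideal A) [p.IsPrime], a ∉ p → ∀ (q : Ideal B) [q.IsPrime] [q.LiesOver p],
      FlatCA.fiberIdeal p q ∈ associatedPrimes (p.Fiber B) (FlatCA.fiberMod p B N) → ∃ i, g i ∉ q := by
  let φ : N →ₗ[B] (Fin r → N) := LinearMap.pi fun i => g i • LinearMap.id
  obtain ⟨a₁, -, ha₁, hN, -⟩ := GenFree.exists_module (R := A) (S := B) (M := N) one_ne_zero
  obtain ⟨a, haa, ha, hC, -⟩ := GenFree.exists_module (R := A) (S := B) (M := (Fin r → N) ⧸ LinearMap.range φ) ha₁
  refine ⟨a, ha, fun p _ hap q _ _ hass => ?_⟩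
  haveI : IsNoetherianRing (p.Fiber B) := FibAssLib.isNoetherianRing_fiber p
  have hex : Function.Exact φ (LinearMap.range φ).mkQ := LinearMap.exact_map_mkQ_range φ
  have hk' : ∀ n : N, (∃ t : A, t ≠ 0 ∧ t • φ n = 0) → ∃ t : A, t ≠ 0 ∧ t • n = 0 :=
    fun n ⟨t, ht, htn⟩ => hK n fun i => ⟨t, ht, congrFun htn i⟩
  have hKinj := lTensor_injective_restrict φ (LinearMap.range φ).mkQ hex (Submodule.mkQ_surjective _) ha (hN.of_dvd haa) hC hk' p hap
  exact exists_notMem_of_injective g p (φ.restrictScalars A) (fun _ _ => rfl) hKinj q hass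

/-- Integral base, affine source chart. -/
theorem exists_open_chart {X T : Scheme.{u}} (f : X ⟶ T) [LocallyOfFiniteType f] [IsIntegral T]
    (F : X.Modules) [Coh.IsQCoh F] (hF : CohB1.IsFT F) (U : X.Opens)
    (h : ∀ x ∈ MoreMor.relAss f F, f x = genericPoint T → x ∈ U)
    {V : T.Opens} (hV : IsAffineOpen V) (hVne : genericPoint T ∈ V) {W : X.Opens} (hW : IsAffineOpen W) (hWV : W ≤ f ⁻¹ᵁ V) :
    ∃ D : T.Opens, genericPoint T ∈ D ∧ ∀ x ∈ MoreMor.relAss f F, x ∈ W → f x ∈ D → x ∈ U := by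
  classical
  haveI : Nonempty V := ⟨⟨_, hVne⟩⟩
  have hft := f.finiteType_appLE hV hW hWV
  letI := (f.appLE V W hWV).hom.toAlgebra
  haveI : Algebra.FiniteType Γ(T, V) Γ(X, W) := hft
  letI := Module.compHom Γ(F, W) (f.appLE V W hWV).hom
  haveI : IsScalarTower Γ(T, V) Γ(X, W) Γ(F, W) := .of_algebraMap_smul fun _ _ => rfl
  haveI := QCohLib.finite_sections F hF hW
  let p₀ : Ideal Γ(T, V) := ⊥
  have hη : (hV.primeIdealOf ⟨genericPoint T, hVne⟩).asIdeal = ⊥ := by
    refine le_bot_iff.mp ?_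
    have h := (AssLib.specializes_iff hV (AssLib.pt_mem hV ⟨⊥, Ideal.isPrime_bot⟩) hVne).mp (genericPoint_specializes _)
    rwa [AssLib.pr_pt] at h
  haveI : IsNoetherianRing (p₀.Fiber Γ(X, W)) := FibAssLib.isNoetherianRing_fiber _
  have hfin := associatedPrimes.finite (p₀.Fiber Γ(X, W)) (FlatCA.fiberMod p₀ Γ(X, W) Γ(F, W))
  have hsec : ∀ P ∈ associatedPrimes (p₀.Fiber Γ(X, W)) (FlatCA.fiberMod p₀ Γ(X, W) Γ(F, W)),
      ∃ c : Γ(X, W), c ∉ P.comap (CAlgFib.ι p₀) ∧ X.basicOpen c ≤ U := by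
    intro P hP
    haveI := hP.1
    haveI : (P.comap (CAlgFib.ι p₀)).LiesOver p₀ := FibAssLib.comap_liesOver p₀ P
    let x := AssLib.pt hW ⟨P.comap (CAlgFib.ι p₀), inferInstance⟩
    have hx : x ∈ W := AssLib.pt_mem hW _
    have hpr : AssLib.pr hW hx = P.comap (CAlgFib.ι p₀) := AssLib.pr_pt hW _
    have hfx : f x = genericPoint T := by
      have h3 : hV.primeIdealOf ⟨f x, hWV hx⟩ = hV.primeIdealOf ⟨genericPoint T, hVne⟩ := by
        rw [← IsAffineOpen.comap_primeIdealOf_appLE V hV W hW hWV hx]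
        refine PrimeSpectrum.ext ?_
        show (AssLib.pr hW hx).comap _ = _
        rw [hpr, hη]
        exact (Ideal.LiesOver.over (p := p₀) (P := P.comap (CAlgFib.ι p₀))).symm
      have h4 := congrArg (fun w => hV.fromSpec w) h3
      simpa only [hV.fromSpec_primeIdealOf] using h4
    have hp : (hV.primeIdealOf ⟨f x, hWV hx⟩).asIdeal = p₀ := by
      show _ = (⊥ : Ideal Γ(T, V))
      rw [← hη]; congr 3
    have hxU : x ∈ U := h x ((mem_relAss_iff f F hV hW hWV x hx).mpr (FlatAssLib.mem_assocFibre_congr hp.symm hpr.symm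
      (by rw [FibAssLib.eq_fiberIdeal_of_comap p₀ rfl]; exact hP))) hfx
    obtain ⟨c, hc, hxc⟩ := hW.exists_basicOpen_le ⟨x, hxU⟩ hx
    refine ⟨c, ?_, hc⟩
    rw [← hpr]
    intro hmem
    have := (hW.fromSpec_preimage_basicOpen c).le (show hW.primeIdealOf ⟨x, hx⟩ ∈ hW.fromSpec ⁻¹ᵁ X.basicOpen c by
      show hW.fromSpec (hW.primeIdealOf ⟨x, hx⟩) ∈ X.basicOpen c
      rw [hW.fromSpec_primeIdealOf]; exact hxc)
    exact this hmem
  choose! c hc hcU using hsec
  let r := hfin.toFinset.card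
  let g : Fin r → Γ(X, W) := fun i => c ((hfin.toFinset.equivFin.symm i).1)
  obtain ⟨a, ha, hreg⟩ := exists_forall_not_le_of_generic (A := Γ(T, V)) (N := Γ(F, W)) g fun n hn => by
    by_contra hcon
    push Not at hcon
    let Y := FlatCA.toFiberMod (S := Γ(X, W)) p₀ (N := Γ(F, W)) n
    have hY : Y ≠ 0 := fun h => by
      obtain ⟨t, ht, htn⟩ := (CAlgFib.toFiberMod_eq_zero_iff p₀ _ _).mp h
      rw [Ideal.map_bot, Submodule.bot_smul, Submodule.mem_bot, algebraMap_smul] at htn
      exact hcon t ht htn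
    have hne : (⊥ : Submodule (p₀.Fiber Γ(X, W)) (FlatCA.fiberMod p₀ Γ(X, W) Γ(F, W))).colon {Y} ≠ ⊤ := fun h => hY (by
      have := Submodule.mem_colon_singleton.mp (h ▸ Submodule.mem_top :
        (1 : p₀.Fiber Γ(X, W)) ∈ (⊥ : Submodule (p₀.Fiber Γ(X, W)) (FlatCA.fiberMod p₀ Γ(X, W) Γ(F, W))).colon {Y})
      rwa [one_smul, Submodule.mem_bot] at this)
    obtain ⟨M, hM, hle⟩ := Ideal.exists_le_maximal _ hne
    haveI := hM.isPrime
    obtain ⟨P, hP, -⟩ := Ideal.exists_minimalPrimes_le hle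
    obtain ⟨y', hy'⟩ := Submodule.exists_eq_colon_of_mem_minimalPrimes hP
    have hPass : P ∈ associatedPrimes _ _ := isAssociatedPrime_iff.mpr ⟨hP.1.1, y', hy'⟩
    have hmem : P ∈ hfin.toFinset := hfin.mem_toFinset.mpr hPass
    obtain ⟨t, ht, htn⟩ := hn (hfin.toFinset.equivFin ⟨P, hmem⟩)
    simp only [g, Equiv.symm_apply_apply] at htn
    refine hc P hPass (hP.1.2 ?_)
    rw [Submodule.mem_colon_singleton, Submodule.mem_bot, ← CAlgFib.smul_eq, ← map_smul,
      CAlgFib.toFiberMod_eq_zero_iff]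
    exact ⟨t, ht, by rw [Ideal.map_bot, Submodule.bot_smul, Submodule.mem_bot, algebraMap_smul]; exact htn⟩
  refine ⟨T.basicOpen a, ?_, fun x hx hxW hxD => ?_⟩
  · have := hV.fromSpec_preimage_basicOpen a
    have hmem : hV.primeIdealOf ⟨genericPoint T, hVne⟩ ∈ PrimeSpectrum.basicOpen a := by
      show a ∉ (hV.primeIdealOf ⟨genericPoint T, hVne⟩).asIdeal
      rw [hη]; exact ha
    rw [← this] at hmem
    change hV.fromSpec (hV.primeIdealOf ⟨genericPoint T, hVne⟩) ∈ T.basicOpen a at hmem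
    rwa [hV.fromSpec_primeIdealOf] at hmem
  · have hpa : a ∉ (hV.primeIdealOf ⟨f x, hWV hxW⟩).asIdeal := by
      have hmem : hV.fromSpec (hV.primeIdealOf ⟨f x, hWV hxW⟩) ∈ T.basicOpen a := by
        rw [hV.fromSpec_primeIdealOf]; exact hxD
      exact (hV.fromSpec_preimage_basicOpen a).le hmem
    haveI : (AssLib.pr hW hxW).LiesOver (hV.primeIdealOf ⟨f x, hWV hxW⟩).asIdeal :=
      ⟨congr($(IsAffineOpen.comap_primeIdealOf_appLE V hV W hW hWV hxW).1).symm⟩
    obtain ⟨i, hi⟩ := hreg _ hpa (AssLib.pr hW hxW) ((mem_relAss_iff f F hV hW hWV x hxW).mp hx)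
    refine hcU _ (hfin.mem_toFinset.mp (hfin.toFinset.equivFin.symm i).2) ?_
    have hmem : hW.primeIdealOf ⟨x, hxW⟩ ∈ hW.fromSpec ⁻¹ᵁ X.basicOpen (g i) :=
      (hW.fromSpec_preimage_basicOpen (g i)).ge hi
    change hW.fromSpec (hW.primeIdealOf ⟨x, hxW⟩) ∈ X.basicOpen (g i) at hmem
    rwa [hW.fromSpec_primeIdealOf] at hmem

/-- Associated points of fibres lie in an open near the generic fibre. -/
theorem exists_open_integral {X T : Scheme.{u}} (f : X ⟶ T) [LocallyOfFiniteType f] [QuasiCompact f] [IsIntegral T]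
    (F : X.Modules) [Coh.IsQCoh F] (hF : CohB1.IsFT F) (U : X.Opens)
    (h : ∀ x ∈ MoreMor.relAss f F, f x = genericPoint T → x ∈ U) :
    ∃ D : T.Opens, genericPoint T ∈ D ∧ ∀ x ∈ MoreMor.relAss f F, f x ∈ D → x ∈ U := by
  classical
  obtain ⟨_, ⟨V : T.Opens, (hV : IsAffineOpen V), rfl⟩, hηV, -⟩ :=
    T.isBasis_affineOpens.exists_subset_of_mem_open (Set.mem_univ (genericPoint T)) isOpen_univ
  obtain ⟨s, hsfin, hs⟩ : ∃ s : Set X.affineOpens, s.Finite ∧
      (f ⁻¹ᵁ V : Set X) = ⋃ i ∈ s, (i.1 : Set X) :=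
    isCompact_and_isOpen_iff_finite_and_eq_biUnion_affineOpens.mp
      ⟨f.isCompact_preimage hV.isCompact, (f ⁻¹ᵁ V).2⟩
  have key : ∀ i ∈ s, ∃ D : T.Opens, genericPoint T ∈ D ∧ ∀ x ∈ MoreMor.relAss f F, x ∈ i.1 → f x ∈ D → x ∈ U :=
    fun i hi => exists_open_chart f F hF U h hV hηV i.2 fun z hz => hs.ge (Set.mem_biUnion hi hz)
  choose! D hD1 hD2 using key
  refine ⟨V ⊓ hsfin.toFinset.inf D, ⟨hηV, ?_⟩, fun x hx hxD => ?_⟩
  · have : ∀ t : Finset X.affineOpens, (∀ j ∈ t, j ∈ s) → genericPoint T ∈ t.inf D := by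
      intro t
      induction t using Finset.induction_on with
      | empty => exact fun _ => trivial
      | insert j t hj ih =>
        intro ht
        rw [Finset.inf_insert]
        exact ⟨hD1 j (ht j (Finset.mem_insert_self j t)), ih fun k hk => ht k (Finset.mem_insert_of_mem hk)⟩
    exact this _ fun j hj => hsfin.mem_toFinset.mp hj
  · obtain ⟨i, hi, hxi⟩ := Set.mem_iUnion₂.mp (hs.le (show x ∈ (f ⁻¹ᵁ V : Set X) from hxD.1))
    exact hD2 i hi x hx hxi ((Finset.inf_le (f := D) (hsfin.mem_toFinset.mpr hi)) hxD.2)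

end Groth.Agent.RelAssLib
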