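import Groth.Agent.CAlgFib.Basic
import Groth.Agent.FibAssLib.Fibre
import Groth.Agent.RGFlatLib.Domain
import Mathlib.RingTheory.Flat.TorsionFree
import Mathlib.RingTheory.Valuation.ValuationRing

/-!
# Associated points of special fibres over a valuation ring
-/

set_option autoImplicit false
set_option linter.style.haveILetI false
set_option linter.unusedSectionVars false
set_option maxHeartbeats 1000000
set_option backward.isDefEq.respectTransparency false

universe u

open Groth.Agent.CAlgFib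

noncomputable section

namespace Groth.Agent.RelAssLib

variable {V : Type u} [CommRing V] [IsDomain V] [ValuationRing V]

/-- Torsion-free modules over a valuation ring are flat. -/
theorem flat_of_torsionFree {M : Type u} [AddCommGroup M] [Module V M]
    (h : ∀ r : V, r ≠ 0 → ∀ m : M, r • m = 0 → m = 0) : Module.Flat V M := by
  rw [Module.Flat.flat_iff_torsion_eq_bot_of_isBezout, eq_bot_iff]
  rintro m ⟨⟨r, hr⟩, hrm⟩
  exact h r (nonZeroDivisors.ne_zero hr) m hrm

/-- An element of `I • L` over a valuation ring with `I` proper is a multiple by an element of `I`. -/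
theorem exists_eq_smul_of_mem_smul {M : Type u} [AddCommGroup M] [Module V M] (I : Ideal V) {x : M}
    (hx : x ∈ I • (⊤ : Submodule V M)) : ∃ v ∈ I, ∃ w : M, x = v • w := by
  refine Submodule.smul_induction_on hx (fun r hr m _ => ⟨r, hr, m, rfl⟩) ?_
  rintro _ _ ⟨v, hv, w, rfl⟩ ⟨v', hv', w', rfl⟩
  obtain ⟨c, hc⟩ := ValuationRing.cond v v'
  rcases hc with h | h
  · exact ⟨v, hv, w + c • w', by rw [smul_add, smul_smul, h]⟩
  · exact ⟨v', hv', c • w + w', by rw [smul_add, smul_smul, h]⟩

variable {S N : Type u} [CommRing S] [Algebra V S] [Algebra.FiniteType V S]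
  [AddCommGroup N] [Module S N] [Module V N] [IsScalarTower V S N] [Module.Finite S N]

/-- The torsion over `V`, as a submodule over `S`. -/
def tors (V S N : Type u) [CommRing V] [IsDomain V] [CommRing S] [Algebra V S] [AddCommGroup N] [Module S N]
    [Module V N] [IsScalarTower V S N] : Submodule S N where
  carrier := {n | ∃ r : V, r ≠ 0 ∧ r • n = 0}
  add_mem' := by
    rintro a b ⟨r, hr, hra⟩ ⟨s, hs, hsb⟩
    exact ⟨r * s, mul_ne_zero hr hs, by rw [smul_add, mul_comm, mul_smul, hra, smul_zero, mul_comm, mul_smul, hsb, smul_zero, add_zero]⟩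
  zero_mem' := ⟨1, one_ne_zero, smul_zero _⟩
  smul_mem' := by
    rintro c a ⟨r, hr, hra⟩
    exact ⟨r, hr, by rw [smul_comm, hra, smul_zero]⟩

theorem quot_torsionFree (r : V) (hr : r ≠ 0) (m : N ⧸ tors V S N) (h : r • m = 0) : m = 0 := by
  obtain ⟨n, rfl⟩ := Submodule.Quotient.mk_surjective _ m
  rw [← Submodule.Quotient.mk_smul, Submodule.Quotient.mk_eq_zero] at h
  obtain ⟨s, hs, hsn⟩ := h
  rw [Submodule.Quotient.mk_eq_zero]
  exact ⟨s * r, mul_ne_zero hs hr, by rw [mul_smul]; exact hsn⟩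

/-- The submodule killed by a prime of the generic fibre is finitely generated. -/
theorem fg_killed (M : Type u) [AddCommGroup M] [Module S M] [Module V M] [IsScalarTower V S M] [Module.Finite S M]
    (hM : ∀ r : V, r ≠ 0 → ∀ m : M, r • m = 0 → m = 0) (P : Ideal S) [P.IsPrime]
    (hP : ∀ r : V, r ≠ 0 → algebraMap V S r ∉ P) :
    ∃ L : Submodule S M, L.FG ∧ ∀ m, m ∈ L ↔ ∀ c ∈ P, c • m = 0 := by
  classical
  obtain ⟨n, π, hπ⟩ := Algebra.FiniteType.iff_quotient_mvPolynomial''.mp ‹Algebra.FiniteType V S›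
  let P₀ := MvPolynomial (Fin n) V
  letI : Algebra P₀ S := π.toRingHom.toAlgebra
  haveI : IsScalarTower V P₀ S := .of_algebraMap_eq fun r => (π.commutes r).symm
  letI : Module P₀ M := Module.compHom M π.toRingHom
  haveI : IsScalarTower P₀ S M := .of_algebraMap_smul fun _ _ => rfl
  haveI : IsScalarTower V P₀ M := .of_algebraMap_smul fun r m => by
    show π (algebraMap V P₀ r) • m = r • m
    rw [π.commutes, algebraMap_smul]
  haveI : Module.Finite P₀ S := Module.Finite.of_surjective (Algebra.linearMap P₀ S) hπ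
  haveI : Module.Finite P₀ M := Module.Finite.trans S M
  haveI : Module.Flat V M := flat_of_torsionFree hM
  haveI : Module.FinitePresentation P₀ M := RGFlatLib.finitePresentation_of_flat_isDomain (R := V)
  let Q : Ideal P₀ := P.comap (algebraMap P₀ S)
  haveI : Module.Flat V (P₀ ⧸ Q) := flat_of_torsionFree fun r hr m hm => by
    obtain ⟨z, rfl⟩ := Submodule.Quotient.mk_surjective _ m
    rw [← Submodule.Quotient.mk_smul, Submodule.Quotient.mk_eq_zero] at hm
    rw [Submodule.Quotient.mk_eq_zero, Ideal.mem_comap]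
    rw [Ideal.mem_comap, Algebra.smul_def, map_mul, ← IsScalarTower.algebraMap_apply] at hm
    exact ((Ideal.IsPrime.mem_or_mem ‹_›) hm).resolve_left (hP r hr)
  haveI : Module.FinitePresentation P₀ (P₀ ⧸ Q) := RGFlatLib.finitePresentation_of_flat_isDomain (R := V)
  have hQ : Q.FG := by
    have := Module.FinitePresentation.fg_ker (Submodule.mkQ Q) (Submodule.mkQ_surjective Q)
    rwa [Submodule.ker_mkQ] at this
  obtain ⟨r, c, hc⟩ := Submodule.fg_iff_exists_fin_generating_family.1 hQ
  let φ : M →ₗ[P₀] (Fin r → M) := LinearMap.pi fun i => c i • LinearMap.id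
  haveI : Module.Flat V (LinearMap.range φ) := flat_of_torsionFree fun s hs m hm => by
    refine Subtype.ext (funext fun i => hM s hs _ ?_)
    exact congrFun (congrArg Subtype.val hm) i
  haveI : Module.Finite P₀ (LinearMap.range φ) := Module.Finite.range φ
  haveI : Module.FinitePresentation P₀ (LinearMap.range φ) := RGFlatLib.finitePresentation_of_flat_isDomain (R := V)
  have hker : (LinearMap.ker φ).FG := by
    have := Module.FinitePresentation.fg_ker φ.rangeRestrict φ.surjective_rangeRestrict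
    rwa [LinearMap.ker_rangeRestrict] at this
  obtain ⟨s, hs⟩ := hker
  refine ⟨Submodule.span S (s : Set M), ⟨s, rfl⟩, fun m => ?_⟩
  have hmem : ∀ m : M, m ∈ LinearMap.ker φ ↔ ∀ c' ∈ P, c' • m = 0 := fun m => by
    constructor
    · intro hm c' hc'
      obtain ⟨z, rfl⟩ := hπ c'
      have hz : z ∈ Q := hc'
      clear hc'
      rw [← hc] at hz
      show z • m = 0
      induction hz using Submodule.span_induction with
      | mem a ha => obtain ⟨i, rfl⟩ := ha; exact congrFun (LinearMap.mem_ker.mp hm) i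
      | zero => rw [zero_smul]
      | add a b _ _ ha hb => rw [add_smul, ha, hb, add_zero]
      | smul a b _ hb => rw [smul_eq_mul, mul_smul, hb, smul_zero]
    · intro hm
      exact LinearMap.mem_ker.mpr (funext fun i => hm _ (show c i ∈ Q from hc ▸ Submodule.subset_span ⟨i, rfl⟩))
  refine ⟨fun hm => ?_, fun hm => ?_⟩
  · refine (hmem m).mp ?_
    induction hm using Submodule.span_induction with
    | mem a ha => exact hs ▸ Submodule.subset_span ha
    | zero => exact zero_mem _
    | add a b _ _ ha hb => exact add_mem ha hb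
    | smul a b _ hb => exact (hmem _).mpr fun c' hc' => by rw [smul_comm, (hmem b).mp hb c' hc', smul_zero]
  · have h := (hmem m).mpr hm
    rw [← hs] at h
    exact Submodule.span_le_restrictScalars P₀ S _ h

omit [IsDomain V] [ValuationRing V] [Algebra V S] [Algebra.FiniteType V S] [Module V N] [IsScalarTower V S N] [Module.Finite S N] in
/-- Nakayama at a prime: some element of `L` stays outside `J L` at `q`. -/
theorem exists_mem_nakayama (q : Ideal S) [q.IsPrime] (J : Ideal S) (hJ : J ≤ q) (L : Submodule S N) (hLfg : L.FG)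
    (x : N) (hxL : x ∈ L) (hx : ∀ s ∉ q, s • x ≠ 0) : ∃ l ∈ L, ∀ s ∉ q, s • l ∉ J • L := by
  classical
  by_contra hcon
  push Not at hcon
  choose! s hs hsl using hcon
  obtain ⟨g, hg⟩ := hLfg
  let s₀ := ∏ l ∈ g, s l
  have hs₀ : s₀ ∉ q := fun h => by
    obtain ⟨l, hl, hlq⟩ := (Ideal.IsPrime.prod_mem_iff (hp := ‹q.IsPrime›)).1 h
    exact hs l (hg ▸ Submodule.subset_span hl) hlq
  have hsub : Ideal.span {s₀} • L ≤ J • L := by
    rw [← hg, Submodule.span_smul_span, Submodule.span_le]
    rintro _ ⟨a, ha, l, hl, rfl⟩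
    rw [Set.mem_singleton_iff.mp ha]
    show s₀ • l ∈ _
    rw [show s₀ = (∏ l' ∈ g.erase l, s l') * s l from (Finset.prod_erase_mul g s hl).symm, mul_smul, hg]
    exact Submodule.smul_mem _ _ (hsl l (hg ▸ Submodule.subset_span hl))
  haveI : Module.Finite S L := Module.Finite.iff_fg.mpr ⟨g, hg⟩
  let Sq := Localization.AtPrime q
  let mk := LocalizedModule.mkLinearMap q.primeCompl L
  haveI : Module.Finite Sq (LocalizedModule q.primeCompl L) :=
    Module.Finite.of_isLocalizedModule q.primeCompl mk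
  have hJm : J.map (algebraMap S Sq) ≤ IsLocalRing.maximalIdeal Sq := by
    rw [Ideal.map_le_iff_le_comap]
    intro a ha
    rw [Ideal.mem_comap, IsLocalization.AtPrime.to_map_mem_maximal_iff Sq q]
    exact hJ ha
  have htop : (⊤ : Submodule Sq (LocalizedModule q.primeCompl L)) ≤
      IsLocalRing.maximalIdeal Sq • ⊤ := by
    intro z _
    obtain ⟨⟨l, t⟩, hlt⟩ := IsLocalizedModule.surj q.primeCompl mk z
    have hu : IsUnit (algebraMap S Sq (s₀ * t)) := IsLocalization.map_units Sq (⟨s₀ * t, q.primeCompl.mul_mem hs₀ t.2⟩ : q.primeCompl)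
    refine (Submodule.smul_mem_iff_of_isUnit _ hu).mp ?_
    rw [map_mul, mul_smul, show algebraMap S Sq (t : S) • z = mk l by rw [algebraMap_smul]; exact hlt, algebraMap_smul,
      ← map_smul]
    have h1 : s₀ • l ∈ J • (⊤ : Submodule S L) := by
      have h2 : ((s₀ • l : L) : N) ∈ Submodule.map L.subtype (J • (⊤ : Submodule S L)) := by
        rw [Submodule.map_smul'', Submodule.map_subtype_top]
        exact hsub (Submodule.smul_mem_smul (Ideal.mem_span_singleton_self _) l.2)
      obtain ⟨y, hy, hye⟩ := h2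
      rwa [← Subtype.ext (a1 := y) hye]
    refine Submodule.smul_induction_on h1 (fun a ha x _ => ?_) fun x y hx hy => by rw [map_add]; exact add_mem hx hy
    rw [map_smul, ← algebraMap_smul Sq a]
    exact Submodule.smul_mem_smul (hJm (Ideal.mem_map_of_mem _ ha)) trivial
  have hbot := Submodule.eq_bot_of_le_smul_of_le_jacobson_bot _ _ Module.Finite.fg_top htop
    (by rw [IsLocalRing.jacobson_eq_maximalIdeal ⊥ bot_ne_top])
  have h0 : mk ⟨x, hxL⟩ = 0 := (Submodule.mem_bot Sq).mp (hbot ▸ Submodule.mem_top)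
  obtain ⟨⟨t, ht⟩, htn⟩ := (IsLocalizedModule.eq_zero_iff q.primeCompl mk).mp h0
  exact hx t ht (congrArg Subtype.val htn)

omit [IsDomain V] [ValuationRing V] [Algebra.FiniteType V S] [Module.Finite S N] in
/-- An element nonzero in the fibre at `q` whose colon cuts out `q` minimally gives an associated point. -/
theorem mem_ass_of_kills (p : Ideal V) [p.IsPrime] (q : Ideal S) [q.IsPrime] [q.LiesOver p]
    [IsNoetherianRing (p.Fiber S)] (P : Ideal S) (n₀ : N)
    (hmin : ∀ q' : Ideal S, q'.IsPrime → P ≤ q' → q' ≤ q → p.map (algebraMap V S) ≤ q' → q ≤ q')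
    (hnokill : ∀ s ∉ q, s • n₀ ∉ p.map (algebraMap V S) • (⊤ : Submodule S N))
    (hkill : ∀ c ∈ P, ∃ s ∉ q, s • c • n₀ = 0) :
    FlatCA.fiberIdeal p q ∈ associatedPrimes (p.Fiber S) (FlatCA.fiberMod p S N) := by
  obtain ⟨hQ, hQc⟩ := FibAssLib.fiberIdeal_spec p q
  haveI := hQ
  let Y := FlatCA.toFiberMod (S := S) p (N := N) n₀
  have hiff : ∀ b : S, ι p b ∈ (⊥ : Submodule (p.Fiber S) (FlatCA.fiberMod p S N)).colon {Y} ↔
      ∃ r ∉ p, algebraMap V S r • b • n₀ ∈ p.map (algebraMap V S) • (⊤ : Submodule S N) := fun b => by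
    rw [Submodule.mem_colon_singleton, Submodule.mem_bot, ← smul_eq, ← map_smul, toFiberMod_eq_zero_iff]
  have hle : (⊥ : Submodule (p.Fiber S) (FlatCA.fiberMod p S N)).colon {Y} ≤ FlatCA.fiberIdeal p q := by
    intro t ht
    obtain ⟨b, hb, s, hs⟩ := exists_factor p t
    refine (Ideal.unit_mul_mem_iff_mem _ (ι_isUnit (S := S) p hb)).mp ?_
    rw [hs]
    refine Ideal.mem_map_of_mem _ ?_
    by_contra hsq
    obtain ⟨r, hr, hrs⟩ := (hiff s).mp (hs ▸ Ideal.mul_mem_left _ _ ht)
    rw [smul_smul] at hrs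
    exact hnokill _ (q.primeCompl.mul_mem (fun h' => hr (by rw [Ideal.LiesOver.over (p := p) (P := q)]; exact h')) hsq) hrs
  obtain ⟨P', hP', hP'Q⟩ := Ideal.exists_minimalPrimes_le hle
  obtain ⟨y', hy'⟩ := Submodule.exists_eq_colon_of_mem_minimalPrimes hP'
  suffices hPeq : P' = FlatCA.fiberIdeal p q from hPeq ▸ isAssociatedPrime_iff.mpr ⟨hP'.1.1, y', hy'⟩
  haveI := hP'.1.1
  refine le_antisymm hP'Q (Ideal.map_le_iff_le_comap.mpr (hmin _ inferInstance (fun c hc => ?_) ?_ ?_))
  · obtain ⟨s, hs, hsx⟩ := hkill c hc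
    have h1 : ι p (s * c) ∈ P' := hP'.1.2 ((hiff _).mpr ⟨1, (Ideal.ne_top_iff_one p).mp (Ideal.IsPrime.ne_top inferInstance), by
      rw [map_one, one_smul, mul_smul, hsx]; exact zero_mem _⟩)
    rw [map_mul] at h1
    exact (hP'.1.1.mem_or_mem h1).resolve_left fun h2 => hs (by rw [← hQc]; exact hP'Q h2)
  · exact (Ideal.comap_mono hP'Q).trans hQc.le
  · exact Ideal.map_le_iff_le_comap.mpr fun r hr => by
      rw [Ideal.mem_comap, Ideal.mem_comap, ι_eq_zero p hr]
      exact zero_mem _

/-- Flatness at `q` kills torsion there. -/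
theorem exists_smul_eq_zero_of_flatAt (q : Ideal S) [q.IsPrime] (hflat : FlatCA.FlatAt V q N) :
    ∀ x ∈ tors V S N, ∃ s ∉ q, s • x = 0 := by
  rintro x ⟨r, hr, hrx⟩
  haveI : Module.Flat V (LocalizedModule q.primeCompl N) := hflat
  have h1 : r • LocalizedModule.mkLinearMap q.primeCompl N x = 0 := by
    rw [← LinearMap.map_smul_of_tower, hrx, map_zero]
  have h2 : LocalizedModule.mkLinearMap q.primeCompl N x = 0 :=
    (Module.Flat.isTorsionFree.isSMulRegular (IsRegular.of_ne_zero hr)) (h1.trans (smul_zero r).symm)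
  obtain ⟨⟨s, hs⟩, hsx⟩ := (IsLocalizedModule.eq_zero_iff q.primeCompl (LocalizedModule.mkLinearMap q.primeCompl N)).mp h2
  exact ⟨s, hs, hsx⟩

/-- Membership of a multiple in `𝔪 N` and torsion-freeness. -/
theorem mem_smul_of_quot (L : Submodule S (N ⧸ tors V S N)) (P : Ideal S)
    (hL : ∀ m, m ∈ L ↔ ∀ c ∈ P, c • m = 0) (n₀ : N) (hlL : (Submodule.Quotient.mk n₀ : N ⧸ tors V S N) ∈ L) (s : S)
    (I : Ideal V) (hmem : s • n₀ ∈ I.map (algebraMap V S) • (⊤ : Submodule S N)) :
    s • (Submodule.Quotient.mk n₀ : N ⧸ tors V S N) ∈ I.map (algebraMap V S) • L := by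
  obtain ⟨v, hv, w, hw⟩ : ∃ v ∈ I, ∃ w : N, s • n₀ = v • w := by
    refine exists_eq_smul_of_mem_smul I ?_
    rw [← Submodule.restrictScalars_top V S N, ← Ideal.smul_restrictScalars]
    exact hmem
  rw [← Submodule.Quotient.mk_smul, hw, Submodule.Quotient.mk_smul]
  by_cases hv0 : v = 0
  · rw [hv0, zero_smul]; exact zero_mem _
  rw [← algebraMap_smul S v]
  refine Submodule.smul_mem_smul (Ideal.mem_map_of_mem _ hv) ((hL _).mpr fun c hc => ?_)
  refine quot_torsionFree (V := V) (S := S) v hv0 _ ?_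
  rw [smul_comm, ← Submodule.Quotient.mk_smul, ← hw, Submodule.Quotient.mk_smul, smul_comm, (hL _).mp hlL c hc, smul_zero]

/-- A maximal point of the closure of an associated point of the generic fibre in the special fibre is
associated there, if the module is flat at it. -/
theorem fiberIdeal_mem_ass_of_flatAt (P : Ideal S) [P.IsPrime] (hP : ∀ r : V, r ≠ 0 → algebraMap V S r ∉ P)
    (n : N) (hn : ∀ c : S, c ∈ P ↔ ∃ r : V, r ≠ 0 ∧ r • c • n = 0)
    (q : Ideal S) [q.IsPrime] [q.LiesOver (IsLocalRing.maximalIdeal V)] (hPq : P ≤ q)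
    (hmin : ∀ q' : Ideal S, q'.IsPrime → P ≤ q' → q' ≤ q →
      (IsLocalRing.maximalIdeal V).map (algebraMap V S) ≤ q' → q ≤ q')
    (hflat : FlatCA.FlatAt V q N) :
    FlatCA.fiberIdeal (IsLocalRing.maximalIdeal V) q ∈
      associatedPrimes ((IsLocalRing.maximalIdeal V).Fiber S) (FlatCA.fiberMod (IsLocalRing.maximalIdeal V) S N) := by
  obtain ⟨L, hLfg, hL⟩ := fg_killed (V := V) (N ⧸ tors V S N) (quot_torsionFree (V := V) (S := S)) P hP
  have hn0 : ∀ c, c ∈ P ↔ c • (Submodule.Quotient.mk n : N ⧸ tors V S N) = 0 := fun c => by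
    rw [← Submodule.Quotient.mk_smul, Submodule.Quotient.mk_eq_zero, hn c]
    rfl
  have hnL : (Submodule.Quotient.mk n : N ⧸ tors V S N) ∈ L := (hL _).mpr fun c hc => (hn0 c).mp hc
  obtain ⟨l, hlL, hl⟩ := exists_mem_nakayama q ((IsLocalRing.maximalIdeal V).map (algebraMap V S))
    (Ideal.map_le_iff_le_comap.mpr (Ideal.LiesOver.over (p := IsLocalRing.maximalIdeal V) (P := q)).le) L hLfg _ hnL
    fun s hs h => hs (hPq ((hn0 s).mpr h))
  obtain ⟨n₀, rfl⟩ := Submodule.Quotient.mk_surjective _ l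
  haveI : IsNoetherianRing ((IsLocalRing.maximalIdeal V).Fiber S) := FibAssLib.isNoetherianRing_fiber _
  refine mem_ass_of_kills (IsLocalRing.maximalIdeal V) q P n₀ hmin
    (fun s hs hmem => hl s hs (mem_smul_of_quot L P hL n₀ hlL s _ hmem))
    fun c hc => exists_smul_eq_zero_of_flatAt q hflat (c • n₀) ((Submodule.Quotient.mk_eq_zero _).mp
      (by rw [Submodule.Quotient.mk_smul]; exact (hL _).mp hlL c hc))

end Groth.Agent.RelAssLib
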