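import Groth.Agent.RelAssLib.Sch
import Groth.Agent.RelAssLib.Valuation
import Groth.Agent.PureLib.Basic
import Groth.Agent.HTopV.Basic
import Groth.Agent.FittStratum.Main
import Mathlib.RingTheory.Valuation.ValuationRing

/-!
# Maximal points of special fibres of the closure of a relative associated point
-/

set_option autoImplicit false
set_option linter.style.haveILetI false
set_option linter.unusedSectionVars false
set_option maxHeartbeats 1000000
set_option backward.isDefEq.respectTransparency false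

universe u

open CategoryTheory Limits AlgebraicGeometry

noncomputable section

namespace Groth.Agent.RelAssLib

theorem exists_maximal_in_fibre {X S : Scheme.{u}} (f : X ⟶ S) [LocallyOfFiniteType f] (y x : X) (hyx : y ⤳ x) :
    ∃ x' : X, y ⤳ x' ∧ x' ⤳ x ∧ f x' = f x ∧ ∀ z : X, y ⤳ z → f z = f x' → z ⤳ x' → z = x' := by
  obtain ⟨_, ⟨V : S.Opens, (hV : IsAffineOpen V), rfl⟩, hxV, -⟩ :=
    S.isBasis_affineOpens.exists_subset_of_mem_open (Set.mem_univ (f x)) isOpen_univ
  obtain ⟨_, ⟨W : X.Opens, (hW : IsAffineOpen W), rfl⟩, hxW, hWV⟩ :=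
    X.isBasis_affineOpens.exists_subset_of_mem_open (a := x) (u := ↑(f ⁻¹ᵁ V)) hxV (f ⁻¹ᵁ V).2
  letI := (f.appLE V W hWV).hom.toAlgebra
  have hyW : y ∈ W := hyx.mem_open W.2 hxW
  let p := (hV.primeIdealOf ⟨f x, hxV⟩).asIdeal
  have hpx : (AssLib.pr hW hxW).comap (algebraMap Γ(S, V) Γ(X, W)) = p :=
    congr($(IsAffineOpen.comap_primeIdealOf_appLE V hV W hW hWV hxW).1)
  obtain ⟨q, hq, hqle⟩ := Ideal.exists_minimalPrimes_le (J := AssLib.pr hW hxW)
    (I := AssLib.pr hW hyW ⊔ p.map (algebraMap Γ(S, V) Γ(X, W)))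
    (sup_le ((AssLib.specializes_iff hW hxW hyW).mp hyx) (Ideal.map_le_iff_le_comap.mpr hpx.ge))
  have hqp : q.comap (algebraMap Γ(S, V) Γ(X, W)) = p :=
    le_antisymm ((Ideal.comap_mono hqle).trans hpx.le) (Ideal.map_le_iff_le_comap.mp (le_sup_right.trans hq.1.2))
  let x' := AssLib.pt hW ⟨q, hq.1.1⟩
  have hx' : x' ∈ W := AssLib.pt_mem hW _
  have hpr : AssLib.pr hW hx' = q := AssLib.pr_pt hW _
  have hfx : f x' = f x := by
    have h3 : hV.primeIdealOf ⟨f x', hWV hx'⟩ = hV.primeIdealOf ⟨f x, hxV⟩ := by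
      rw [← IsAffineOpen.comap_primeIdealOf_appLE V hV W hW hWV hx']
      refine PrimeSpectrum.ext ?_
      show (AssLib.pr hW hx').comap _ = _
      rw [hpr]
      exact hqp
    have h4 := congrArg (fun w => hV.fromSpec w) h3
    simpa only [hV.fromSpec_primeIdealOf] using h4
  refine ⟨x', (AssLib.specializes_iff hW hx' hyW).mpr (hpr ▸ le_sup_left.trans hq.1.2),
    (AssLib.specializes_iff hW hxW hx').mpr (hpr.trans_le hqle), hfx, fun z hyz hfz hzx => ?_⟩
  have hz : z ∈ W := hzx.mem_open W.2 hx'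
  have hzp : (AssLib.pr hW hz).comap (algebraMap Γ(S, V) Γ(X, W)) = p := by
    refine (congr($(IsAffineOpen.comap_primeIdealOf_appLE V hV W hW hWV hz).1)).trans ?_
    simp only [p]; congr 3; exact hfz.trans hfx
  have h1 : AssLib.pr hW hz = AssLib.pr hW hx' := le_antisymm ((AssLib.specializes_iff hW hx' hz).mp hzx)
    (hpr.trans_le (hq.2 ⟨inferInstance, sup_le ((AssLib.specializes_iff hW hz hyW).mp hyz)
      (Ideal.map_le_iff_le_comap.mpr hzp.ge)⟩ (hpr ▸ (AssLib.specializes_iff hW hx' hz).mp hzx)))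
  have h2 : hW.primeIdealOf ⟨z, hz⟩ = hW.primeIdealOf ⟨x', hx'⟩ := PrimeSpectrum.ext h1
  have h4 := congrArg (fun w => hW.fromSpec w) h2
  simpa only [hW.fromSpec_primeIdealOf] using h4

/-- The case of a valuation ring. -/
theorem mem_relAss_of_valuation {A : CommRingCat.{u}} [IsDomain A] [ValuationRing A] {X : Scheme.{u}}
    (f : X ⟶ Spec A) [LocallyOfFiniteType f] (F : X.Modules) [Coh.IsQCoh F] (hF : CohB1.IsFT F)
    {y x : X} (hy : y ∈ MoreMor.relAss f F) (hfy : f y = HTopV.genPt A) (hfx : f x = IsLocalRing.closedPoint A)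
    (hyx : y ⤳ x) (hmax : ∀ z : X, y ⤳ z → f z = f x → z ⤳ x → z = x)
    (hflat : FlatMod.IsFlatOverAt f F x) : x ∈ MoreMor.relAss f F := by
  let V : (Spec A).Opens := ⊤
  have hV : IsAffineOpen V := isAffineOpen_top (Spec A)
  haveI : IsDomain Γ(Spec A, V) := (Scheme.ΓSpecIso A).commRingCatIsoToRingEquiv.symm.isDomain_iff.mp ‹_›
  haveI : ValuationRing Γ(Spec A, V) :=
    Function.Surjective.valuationRing (Scheme.ΓSpecIso A).commRingCatIsoToRingEquiv.symm.toRingHom
      (Scheme.ΓSpecIso A).commRingCatIsoToRingEquiv.symm.surjective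
  obtain ⟨_, ⟨W : X.Opens, (hW : IsAffineOpen W), rfl⟩, hxW, hWV⟩ :=
    X.isBasis_affineOpens.exists_subset_of_mem_open (a := x) (u := ↑(f ⁻¹ᵁ V)) (show f x ∈ V from trivial) (f ⁻¹ᵁ V).2
  have hft := f.finiteType_appLE hV hW hWV
  letI := (f.appLE V W hWV).hom.toAlgebra
  haveI : Algebra.FiniteType Γ(Spec A, V) Γ(X, W) := hft
  letI := Module.compHom Γ(F, W) (f.appLE V W hWV).hom
  haveI : IsScalarTower Γ(Spec A, V) Γ(X, W) Γ(F, W) := .of_algebraMap_smul fun _ _ => rfl
  haveI := QCohLib.finite_sections F hF hW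
  have hyW : y ∈ W := hyx.mem_open W.2 hxW
  have hmax' : (hV.primeIdealOf ⟨f x, hWV hxW⟩).asIdeal = IsLocalRing.maximalIdeal Γ(Spec A, V) := by
    refine le_antisymm (IsLocalRing.le_maximalIdeal (Ideal.IsPrime.ne_top inferInstance)) ?_
    have h := (AssLib.specializes_iff hV (hWV hxW)
      (AssLib.pt_mem hV ⟨IsLocalRing.maximalIdeal Γ(Spec A, V), inferInstance⟩)).mp
      (hfx ▸ IsLocalRing.specializes_closedPoint _)
    rwa [AssLib.pr_pt] at h
  have hbot : (hV.primeIdealOf ⟨f y, hWV hyW⟩).asIdeal = ⊥ := by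
    refine le_bot_iff.mp ?_
    have h := (AssLib.specializes_iff hV (AssLib.pt_mem hV ⟨⊥, Ideal.isPrime_bot⟩) (hWV hyW)).mp
      (hfy ▸ HTopV.genPt_specializes A _)
    rwa [AssLib.pr_pt] at h
  have hPbot : (AssLib.pr hW hyW).comap (algebraMap Γ(Spec A, V) Γ(X, W)) = ⊥ :=
    (congr($(IsAffineOpen.comap_primeIdealOf_appLE V hV W hW hWV hyW).1)).trans hbot
  haveI : (AssLib.pr hW hyW).LiesOver (⊥ : Ideal Γ(Spec A, V)) := ⟨hPbot.symm⟩
  haveI : (AssLib.pr hW hxW).LiesOver (IsLocalRing.maximalIdeal Γ(Spec A, V)) :=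
    ⟨((congr($(IsAffineOpen.comap_primeIdealOf_appLE V hV W hW hWV hxW).1)).trans hmax').symm⟩
  haveI : IsNoetherianRing ((⊥ : Ideal Γ(Spec A, V)).Fiber Γ(X, W)) := FibAssLib.isNoetherianRing_fiber _
  obtain ⟨n, hn⟩ := PureLib.exists_elem_of_ass (⊥ : Ideal Γ(Spec A, V)) Γ(F, W) (AssLib.pr hW hyW)
    (FlatAssLib.mem_assocFibre_congr hbot rfl ((mem_relAss_iff f F hV hW hWV y hyW).mp hy))
  refine (mem_relAss_iff f F hV hW hWV x hxW).mpr (FlatAssLib.mem_assocFibre_congr hmax'.symm rfl ?_)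
  refine fiberIdeal_mem_ass_of_flatAt (AssLib.pr hW hyW) (fun r hr h => hr ?_) n (fun c => (hn c).trans ?_)
    (AssLib.pr hW hxW) ((AssLib.specializes_iff hW hxW hyW).mp hyx) (fun q' hq' hPq' hq'x hmq' => ?_) ?_
  · have : r ∈ (AssLib.pr hW hyW).comap (algebraMap Γ(Spec A, V) Γ(X, W)) := h
    rw [hPbot] at this
    exact this
  · constructor
    · rintro ⟨r, hr, hrn⟩
      rw [Ideal.map_bot, Submodule.bot_smul, Submodule.mem_bot, algebraMap_smul] at hrn
      exact ⟨r, hr, hrn⟩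
    · rintro ⟨r, hr, hrn⟩
      exact ⟨r, hr, by rw [Ideal.map_bot, Submodule.bot_smul, Submodule.mem_bot, algebraMap_smul]; exact hrn⟩
  · let z := AssLib.pt hW ⟨q', hq'⟩
    have hz : z ∈ W := AssLib.pt_mem hW _
    have hpr : AssLib.pr hW hz = q' := AssLib.pr_pt hW _
    have hfz : f z = f x := by
      have h3 : hV.primeIdealOf ⟨f z, hWV hz⟩ = hV.primeIdealOf ⟨f x, hWV hxW⟩ := by
        rw [← IsAffineOpen.comap_primeIdealOf_appLE V hV W hW hWV hz]
        refine PrimeSpectrum.ext ?_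
        show (AssLib.pr hW hz).comap _ = _
        rw [hpr, hmax']
        exact le_antisymm (IsLocalRing.le_maximalIdeal (Ideal.IsPrime.ne_top (hq'.comap _)))
          (Ideal.map_le_iff_le_comap.mp hmq')
      have h4 := congrArg (fun w => hV.fromSpec w) h3
      simpa only [hV.fromSpec_primeIdealOf] using h4
    have hzx := hmax z ((AssLib.specializes_iff hW hz hyW).mpr (hpr ▸ hPq')) hfz
      ((AssLib.specializes_iff hW hxW hz).mpr (hpr.trans_le hq'x))
    have : q' = AssLib.pr hW hxW := by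
      rw [← hpr]; simp only [AssLib.pr]; congr 3
    exact this.ge
  · exact (FlatLocus.isFlatOverAt_iff f F hV hW hWV x hxW).mp hflat

/-- A maximal point in a fibre of the closure of a relative associated point is one if the module is flat there. -/
theorem mem_relAss_of_maximal {X S : Scheme.{u}} (f : X ⟶ S) [LocallyOfFiniteType f] (F : X.Modules) [Coh.IsQCoh F]
    (hF : CohB1.IsFT F) {y x : X} (hy : y ∈ MoreMor.relAss f F) (hyx : y ⤳ x)
    (hmax : ∀ z : X, y ⤳ z → f z = f x → z ⤳ x → z = x)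
    (hflat : FlatMod.IsFlatOverAt f F x) : x ∈ MoreMor.relAss f F := by
  obtain ⟨A, hA, hA', l, hlc, hlg⟩ := HTopV.exists_valuationRing_of_specializes hyx
  let g := l ≫ f
  let X' := pullback f g
  let g' : X' ⟶ X := pullback.fst f g
  let f' : X' ⟶ Spec A := pullback.snd f g
  have hc : IsPullback g' f' f g := IsPullback.of_hasPullback f g
  let σ : Spec A ⟶ X' := pullback.lift l (𝟙 _) (by simp [g])
  have hσg : ∀ w, g' (σ w) = l w := fun w => by
    rw [← Scheme.Hom.comp_apply, pullback.lift_fst]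
  have hσf : ∀ w, f' (σ w) = w := fun w => by
    rw [← Scheme.Hom.comp_apply, pullback.lift_snd]; rfl
  haveI : LocallyOfFiniteType f' := MorphismProperty.pullback_snd _ _ inferInstance
  let gF := (Scheme.Modules.pullback g').obj F
  haveI : Coh.IsQCoh gF := PullbackMod.isQCoh_pullback g' F
  obtain ⟨h1, -, h3⟩ := relAss_baseChange f F hc
  obtain ⟨y', hy', hy'σ, hgy', hfy'⟩ := h3 (σ (HTopV.genPt A)) (by rw [hσg, hlg]; exact hy)
  have hy'x : y' ⤳ σ (IsLocalRing.closedPoint A) :=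
    hy'σ.trans ((HTopV.genPt_specializes A _).map σ.continuous)
  obtain ⟨x', hy'x', hx'σ, hfx', hmax'⟩ := exists_maximal_in_fibre f' y' _ hy'x
  rw [hσf] at hfx'
  rw [hσf] at hfy'
  rw [hσg, hlg] at hgy'
  have hgx' : g' x' = x := by
    refine hmax _ (hgy' ▸ hy'x'.map g'.continuous) ?_ ?_
    · rw [← Scheme.Hom.comp_apply, hc.w, Scheme.Hom.comp_apply, hfx', ← hlc, ← Scheme.Hom.comp_apply]
    · have := hx'σ.map g'.continuous
      rwa [hσg, hlc] at this
  have hflat' : FlatMod.IsFlatOverAt f' gF x' := PullbackMod.isFlatOverAt_baseChange hc F x' (hgx'.symm ▸ hflat)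
  rw [← hgx']
  exact h1 x' (mem_relAss_of_valuation f' gF (FittStratum.isFT_pullback F hF g') hy' hfy' hfx' hy'x'
    (fun z hz hfz hzx => hmax' z hz hfz hzx) hflat')

end Groth.Agent.RelAssLib
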